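import Groth.Prelude.Def_ZClos
import Groth.Agent.Lib.HomColim20.Sections
import Groth.Agent.Lib.OX.Exact
import Mathlib

/-!
# The Z-closure: sections over quasi-compact opens
-/

set_option autoImplicit false
universe u

open CategoryTheory CategoryTheory.Limits AlgebraicGeometry TopologicalSpace Opposite

namespace GrothLib.ZClosure

variable {X : Scheme.{u}}

/-- The restriction map of a module between opens. -/
noncomputable abbrev res (M : X.Modules) {V W : X.Opens} (h : V ≤ W) :
    Γ(M, W) ⟶ Γ(M, V) := M.presheaf.map (homOfLE h).op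

theorem res_res (M : X.Modules) {U V W : X.Opens} (h : U ≤ V) (h' : V ≤ W) (s : Γ(M, W)) :
    res M h (res M h' s) = res M (h.trans h') s := by
  rw [← ConcreteCategory.comp_apply, res, res, ← Functor.map_comp]
  rfl

theorem res_self (M : X.Modules) {V : X.Opens} (h : V ≤ V) (s : Γ(M, V)) : res M h s = s := by
  rw [res, show (homOfLE h).op = 𝟙 (op V) from rfl, M.presheaf.map_id]
  rfl

theorem res_bijective_of_eq (M : X.Modules) {V W : X.Opens} (h : V ≤ W) (e : V = W) :
    Function.Bijective (res M h) := by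
  subst e
  exact ⟨fun a b hab => by rwa [res_self, res_self] at hab, fun a => ⟨a, res_self M h a⟩⟩

theorem app_res {M N : X.Modules} (f : M ⟶ N) {V W : X.Opens} (h : V ≤ W) (s : Γ(M, W)) :
    f.app V (res M h s) = res N h (f.app W s) :=
  ConcreteCategory.congr_hom (f.mapPresheaf.naturality (homOfLE h).op) s

theorem germ_res (M : X.Modules) {V W : X.Opens} (h : V ≤ W) {x : X} (hx : x ∈ V) (s : Γ(M, W)) :
    M.presheaf.germ V x hx (res M h s) = M.presheaf.germ W x (h hx) s :=
  TopCat.Presheaf.germ_res_apply M.presheaf (homOfLE h) x hx s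

theorem exists_res_eq_of_germ_eq (M : X.Modules) {V W : X.Opens} {x : X} (hV : x ∈ V) (hW : x ∈ W)
    (s : Γ(M, V)) (t : Γ(M, W)) (h : M.presheaf.germ V x hV s = M.presheaf.germ W x hW t) :
    ∃ (O : X.Opens) (_ : x ∈ O) (iV : O ≤ V) (iW : O ≤ W), res M iV s = res M iW t := by
  obtain ⟨O, hO, iV, iW, e⟩ := TopCat.Presheaf.germ_eq M.presheaf x hV hW s t h
  exact ⟨O, hO, iV.le, iW.le, e⟩

theorem exists_compact_nhd (x : X) (U : X.Opens) (hx : x ∈ U) :
    ∃ W : X.Opens, x ∈ W ∧ W ≤ U ∧ IsCompact (W : Set X) := by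
  obtain ⟨_, ⟨W, hW, rfl⟩, hxW, hWU⟩ := X.isBasis_affineOpens.exists_subset_of_mem_open hx U.2
  exact ⟨W, hxW, hWU, IsAffineOpen.isCompact hW⟩

theorem section_ext (M : X.Modules) {V : X.Opens} (s t : Γ(M, V))
    (h : ∀ (x : X) (hx : x ∈ V), M.presheaf.germ V x hx s = M.presheaf.germ V x hx t) : s = t :=
  TopCat.Presheaf.section_ext (C := Ab.{u}) (X := X.carrier) ⟨M.presheaf, M.isSheaf⟩ V s t h

/-- A section vanishing near every point vanishes. -/
theorem eq_zero_of_locally (M : X.Modules) {V : X.Opens} (s : Γ(M, V))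
    (h : ∀ x ∈ V, ∃ (W : X.Opens) (hW : W ≤ V), x ∈ W ∧ res M hW s = 0) : s = 0 := by
  refine section_ext M s 0 fun x hx => ?_
  obtain ⟨W, hW, hxW, h0⟩ := h x hx
  rw [← germ_res M hW hxW s, h0, map_zero, map_zero]

theorem app_injective_of_mono {M N : X.Modules} (f : M ⟶ N) [Mono f] (V : X.Opens) :
    Function.Injective (f.app V) := by
  haveI : Mono ((Scheme.Modules.toPresheaf X).map f) := inferInstance
  exact (AddCommGrpCat.mono_iff_injective _).1 (NatTrans.mono_iff_mono_app _ |>.1 this (op V))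

/-- Monomorphisms are detected on small quasi-compact opens. -/
theorem mono_of_basis {M N : X.Modules} (f : M ⟶ N)
    (h : ∀ (x : X) (U : X.Opens), x ∈ U →
      ∃ W : X.Opens, x ∈ W ∧ W ≤ U ∧ Function.Injective (f.app W)) : Mono f := by
  refine Preadditive.mono_of_cancel_zero f fun {P} g hg => Scheme.Modules.hom_ext _ _ fun U => ?_
  ext s
  refine eq_zero_of_locally M _ fun x hx => ?_
  obtain ⟨W, hxW, hWU, hinj⟩ := h x U hx
  refine ⟨W, hWU, hxW, hinj ?_⟩
  have h0 : f.app U (g.app U s) = 0 := ConcreteCategory.congr_hom (congrArg (fun k => k.app U) hg) s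
  rw [map_zero, app_res, h0, map_zero]

/-- The stalk map is bijective as soon as the map is bijective on small quasi-compact opens. -/
theorem stalk_bijective_of_basis {M N : X.Modules} (f : M ⟶ N) (x : X)
    (h : ∀ U : X.Opens, x ∈ U → ∃ W : X.Opens, x ∈ W ∧ W ≤ U ∧ Function.Bijective (f.app W)) :
    Function.Bijective ((TopCat.Presheaf.stalkFunctor (C := Ab.{u}) x).map f.mapPresheaf) := by
  refine ⟨(injective_iff_map_eq_zero _).2 fun e he => ?_, fun e => ?_⟩
  · obtain ⟨U, hU, s, rfl⟩ := TopCat.Presheaf.exists_germ_eq M.presheaf e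
    rw [TopCat.Presheaf.stalkFunctor_map_germ_apply] at he
    replace he := he.trans (map_zero (N.presheaf.germ U x hU).hom).symm
    obtain ⟨O, hO, i, i', e'⟩ := exists_res_eq_of_germ_eq N hU hU _ _ he
    obtain ⟨W, hxW, hWO, hb⟩ := h O hO
    have hz : res M (hWO.trans i) s = 0 := hb.1 (by
      rw [app_res, ← res_res N hWO i, show res N i (f.app U s) = res N i' 0 from e', map_zero, map_zero, map_zero])
    rw [← germ_res M (hWO.trans i) hxW s, hz]
    exact map_zero _
  · obtain ⟨U, hU, t, rfl⟩ := TopCat.Presheaf.exists_germ_eq N.presheaf e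
    obtain ⟨W, hxW, hWU, hb⟩ := h U hU
    obtain ⟨s, hs⟩ := hb.2 (res N hWU t)
    refine ⟨M.presheaf.germ W x hxW s, ?_⟩
    rw [TopCat.Presheaf.stalkFunctor_map_germ_apply]
    exact (congrArg _ hs).trans (germ_res N hWU hxW t)

theorem isIso_of_stalk {M N : X.Modules} (f : M ⟶ N)
    (h : ∀ x : X, Function.Bijective ((TopCat.Presheaf.stalkFunctor (C := Ab.{u}) x).map f.mapPresheaf)) :
    IsIso f :=
  (GrothLib.OX.isIso_iff f).2 fun x => (ConcreteCategory.isIso_iff_bijective _).2 (h x)

/-- Isomorphisms are detected on small quasi-compact opens. -/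
theorem isIso_of_basis {M N : X.Modules} (f : M ⟶ N)
    (h : ∀ (x : X) (U : X.Opens), x ∈ U →
      ∃ W : X.Opens, x ∈ W ∧ W ≤ U ∧ Function.Bijective (f.app W)) : IsIso f :=
  isIso_of_stalk f fun x => stalk_bijective_of_basis f x (h x)

theorem app_bijective_of_isIso {M N : X.Modules} (f : M ⟶ N) [IsIso f] (V : X.Opens) :
    Function.Bijective (f.app V) :=
  (ConcreteCategory.isIso_iff_bijective _).1 inferInstance

section Diagram

variable {Z : Set X}

/-- The open on which the `T`-th term of the inductive system is evaluated. -/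
noncomputable abbrev img (T : _root_.ZClos.Cl Z) (V : X.Opens) : X.Opens := T.U.ι ''ᵁ T.U.ι ⁻¹ᵁ V

theorem img_eq (T : _root_.ZClos.Cl Z) (V : X.Opens) : img T V = T.U ⊓ V := _root_.ZClos.ι_image_preimage _ _

theorem img_le (T : _root_.ZClos.Cl Z) (V : X.Opens) : img T V ≤ V := T.U.ι.image_preimage_le V

theorem toDiagram_app (F : X.Modules) (T : _root_.ZClos.Cl Z) (V : X.Opens) (s : Γ(F, V)) :
    (_root_.ZClos.toDiagram Z F T).app V s = res F (img_le T V) s := rfl

theorem diagram_map (F : X.Modules) {T T' : _root_.ZClos.Cl Z} (f : T ⟶ T') :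
    ((_root_.ZClos.diagram Z).obj F).map f = _root_.ZClos.resPushMapApp (_root_.ZClos.Cl.U_anti f.le) F := rfl

theorem diagram_map_app_hom (F : X.Modules) {T T' : _root_.ZClos.Cl Z} (f : T ⟶ T') (V : X.Opens) :
    (((_root_.ZClos.diagram Z).obj F).map f).app V =
      F.presheaf.map (_root_.ZClos.trIncl (_root_.ZClos.Cl.U_anti f.le) V).op :=
  _root_.ZClos.resPushMapApp_app _ F V

theorem diagram_map_app (F : X.Modules) {T T' : _root_.ZClos.Cl Z} (f : T ⟶ T') (V : X.Opens)
    (s : Γ(F, img T V)) :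
    (((_root_.ZClos.diagram Z).obj F).map f).app V s =
      res F (_root_.ZClos.resPush_le (_root_.ZClos.Cl.U_anti f.le) V) s := by
  rw [diagram_map_app_hom]
  rfl

/-- The injection of the `T`-th term into the Z-closure, on sections. -/
noncomputable def iota (F : X.Modules) (T : _root_.ZClos.Cl Z) (V : X.Opens) :
    Γ(F, img T V) →+ Γ((_root_.ZClos.H0 Z).obj F, V) :=
  ((colimit.ι ((_root_.ZClos.diagram Z).obj F) T).app V).hom

theorem iota_res (F : X.Modules) {T T' : _root_.ZClos.Cl Z} (h : T ≤ T') (V : X.Opens) (s : Γ(F, img T V)) :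
    iota F T' V (res F (_root_.ZClos.resPush_le (_root_.ZClos.Cl.U_anti h) V) s) = iota F T V s := by
  rw [← diagram_map_app F (homOfLE h) V s]
  exact GrothLib.HomColim20.ι_app_map_app (D := (_root_.ZClos.diagram Z).obj F) (c := colimit.cocone ((_root_.ZClos.diagram Z).obj F)) (homOfLE h) (U := V) s

theorem res_iota (F : X.Modules) (T : _root_.ZClos.Cl Z) {V W : X.Opens} (h : W ≤ V) (s : Γ(F, img T V))
    (h' : img T W ≤ img T V) :
    res ((_root_.ZClos.H0 Z).obj F) h (iota F T V s) = iota F T W (res F h' s) :=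
  (app_res (colimit.ι ((_root_.ZClos.diagram Z).obj F) T) h s).symm

theorem rhoApp_app (F : X.Modules) (T : _root_.ZClos.Cl Z) (V : X.Opens) (s : Γ(F, V)) :
    (_root_.ZClos.rhoApp Z F).app V s = iota F T V (res F (img_le T V) s) := by
  rw [_root_.ZClos.rhoApp_eq Z F T]
  rfl

theorem rhoApp_comp_app {F G : X.Modules} (v : (_root_.ZClos.H0 Z).obj F ⟶ G) (T : _root_.ZClos.Cl Z)
    (V : X.Opens) (s : Γ(F, V)) :
    (_root_.ZClos.rhoApp Z F ≫ v).app V s = v.app V (iota F T V (res F (img_le T V) s)) := by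
  rw [← rhoApp_app]
  rfl

variable [IsLocallyNoetherian X]

theorem exists_iota_eq (F : X.Modules) {V : X.Opens} (hV : IsCompact (V : Set X))
    (t : Γ((_root_.ZClos.H0 Z).obj F, V)) : ∃ (T : _root_.ZClos.Cl Z) (s : Γ(F, img T V)), iota F T V s = t :=
  GrothLib.HomColim20.sec_gen (colimit.isColimit ((_root_.ZClos.diagram Z).obj F)) hV t

theorem iota_eq_zero (F : X.Modules) {V : X.Opens} (hV : IsCompact (V : Set X)) (T : _root_.ZClos.Cl Z)
    (s : Γ(F, img T V)) (h : iota F T V s = 0) :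
    ∃ (T' : _root_.ZClos.Cl Z) (hT : T ≤ T'),
      res F (_root_.ZClos.resPush_le (_root_.ZClos.Cl.U_anti hT) V) s = 0 := by
  obtain ⟨T', f, hf⟩ := GrothLib.HomColim20.sec_kill (colimit.isColimit ((_root_.ZClos.diagram Z).obj F)) hV s h
  exact ⟨T', f.le, (diagram_map_app F f V s).symm.trans hf⟩

end Diagram

end GrothLib.ZClosure
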