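import Groth.Agent.Lib.ZClos.DepthGlobal
import Groth.Agent.Lib.Depth.Transfer

/-!
# The Z-closure at codimension two and Serre's condition
-/

set_option autoImplicit false
set_option linter.style.haveILetI false
universe u

open CategoryTheory CategoryTheory.Limits AlgebraicGeometry TopologicalSpace Opposite

namespace GrothLib.ZClosure

open GrothLib.WeakAss (primeAt notMem_primeAt_iff)

variable {X : Scheme.{u}} [IsLocallyNoetherian X] (F : X.Modules) (hF : Coh.IsCoh F)

theorem stableUnderSpecialization_dimGe (n : ℕ) : StableUnderSpecialization (_root_.ZClos.dimGe X n) := by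
  intro x y h hx
  refine le_trans (α := WithBot ℕ∞) hx ?_
  rw [AlgebraicGeometry.ringKrullDim_stalk_eq_coheight, AlgebraicGeometry.ringKrullDim_stalk_eq_coheight,
    WithBot.coe_le_coe]
  exact Order.coheight_anti h

include hF in
/-- On a module with full support the dimension at a point is that of the local ring. -/
theorem supportDim_stalk_eq (hsupp : ∀ x : X, Nontrivial (F.presheaf.stalk x)) (y : X) :
    Module.supportDim (X.presheaf.stalk y) (F.presheaf.stalk y) = ringKrullDim (X.presheaf.stalk y) := by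
  haveI := hF.1
  haveI := GrothLib.QuasiFlat.finite_stalk F hF y
  suffices h : Module.support (X.presheaf.stalk y) (F.presheaf.stalk y) = Set.univ by
    rw [Module.supportDim, h]
    exact Order.krullDim_eq_of_orderIso OrderIso.Set.univ
  rw [Module.support_eq_zeroLocus, Set.eq_univ_iff_forall]
  intro Q
  rw [PrimeSpectrum.mem_zeroLocus]
  intro a' ha'
  obtain ⟨_, ⟨W, hW, rfl⟩, hyW, -⟩ := X.isBasis_affineOpens.exists_subset_of_mem_open (Set.mem_univ y) isOpen_univ
  replace hW : IsAffineOpen W := hW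
  haveI : IsNoetherianRing Γ(X, W) := IsLocallyNoetherian.component_noetherian ⟨W, hW⟩
  haveI : Module.Finite Γ(X, W) Γ(F, W) := GrothLib.QCoh.moduleFinite_of_isFiniteType F hF.2 hW
  obtain ⟨den, num, hd, hnum⟩ := FlatFP.exists_common_denominator hW hyW (κ := PUnit.{u + 1}) (fun _ => a')
  let a := num PUnit.unit
  have hga : ∀ m : Γ(F, W), F.presheaf.germ W y hyW (a • m) = 0 := fun m => by
    rw [WeakAss.germ_smul hyW, hnum, mul_smul, Module.mem_annihilator.1 ha' _, smul_zero]
  obtain ⟨s, hs, hsm⟩ := GrothLib.Depth.exists_smul_mem_of_fg (primeAt y hyW).primeCompl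
    (IsNoetherian.noetherian (LinearMap.range (LinearMap.lsmul Γ(X, W) Γ(F, W) a))) ⊥ (fun m hm => by
      obtain ⟨n, rfl⟩ := hm
      obtain ⟨c, hc, h'⟩ := (WeakAss.germ_eq_zero_iff hW hyW (a • n)).1 (hga n)
      exact ⟨c, hc, by simpa using h'⟩)
  have hnil : IsNilpotent (s * a) := by
    refine nilpotent_iff_mem_prime.2 fun P hP => ?_
    obtain ⟨z, hz, rfl⟩ := AssPts.exists_point hW P hP
    by_contra hsa
    refine not_subsingleton (F.presheaf.stalk z) ⟨fun μ ν => ?_⟩
    suffices h0 : ∀ μ : F.presheaf.stalk z, μ = 0 by rw [h0 μ, h0 ν]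
    intro μ
    obtain ⟨c, m, hc, hm⟩ := WeakAss.exists_smul_eq_germ hW hz μ
    have h1 : F.presheaf.germ W z hz m = 0 := (WeakAss.germ_eq_zero_iff hW hz m).2
      ⟨s * a, hsa, by rw [mul_smul]; simpa using hsm (a • m) ⟨m, rfl⟩⟩
    rw [← hm] at h1
    exact ((Scheme.mem_basicOpen _ c z hz).mp (notMem_primeAt_iff.mp hc)).smul_eq_zero.mp h1
  have h2 : IsNilpotent (X.presheaf.germ W y hyW s * (X.presheaf.germ W y hyW den * a')) := by
    rw [← hnum, ← map_mul]
    exact hnil.map (X.presheaf.germ W y hyW).hom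
  obtain ⟨n, hn⟩ := h2
  have h3 := Q.isPrime.mem_of_pow_mem n (hn ▸ Q.asIdeal.zero_mem :
    (X.presheaf.germ W y hyW s * (X.presheaf.germ W y hyW den * a')) ^ n ∈ Q.asIdeal)
  rcases Q.isPrime.mem_or_mem h3 with h4 | h4
  · exact absurd (Ideal.eq_top_of_isUnit_mem _ h4 ((Scheme.mem_basicOpen _ s y hyW).mp (notMem_primeAt_iff.mp hs)))
      Q.isPrime.ne_top
  rcases Q.isPrime.mem_or_mem h4 with h5 | h5
  · exact absurd (Ideal.eq_top_of_isUnit_mem _ h5 ((Scheme.mem_basicOpen _ den y hyW).mp (notMem_primeAt_iff.mp hd)))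
      Q.isPrime.ne_top
  · exact h5

theorem dim_le_one_of_notMem {x : X} (hx : x ∉ _root_.ZClos.dimGe X 2) :
    ringKrullDim (X.presheaf.stalk x) = 0 ∨ ringKrullDim (X.presheaf.stalk x) = 1 := by
  have h0 : 0 ≤ ringKrullDim (X.presheaf.stalk x) := ringKrullDim_nonneg_of_nontrivial
  have hlt : ringKrullDim (X.presheaf.stalk x) < (2 : ℕ) := not_le.1 hx
  generalize ringKrullDim (X.presheaf.stalk x) = d at h0 hlt ⊢
  rcases d with _ | d
  · exact absurd h0 (by decide)
  rcases d with _ | d
  · exact absurd hlt (not_lt.2 le_top)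
  · have h2 : d < 2 := by
      have h := WithBot.coe_lt_coe.1 hlt
      exact WithTop.coe_lt_coe.1 h
    interval_cases d
    · exact Or.inl rfl
    · exact Or.inr rfl

include hF in
/-- Serre's condition S₂ holds at a point off `Z^(2)` for a module without associated points of height one. -/
theorem min_le_depth_of_notMem (hass : ∀ x : X, Curv2.IsAssPoint F x → ringKrullDim (X.presheaf.stalk x) ≠ 1)
    {x : X} (hx : x ∉ _root_.ZClos.dimGe X 2) (M : Type u) [AddCommGroup M] [Module (X.presheaf.stalk x) M]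
    [Module.Finite (X.presheaf.stalk x) M] (e : F.presheaf.stalk x ≃ₗ[X.presheaf.stalk x] M) :
    min (2 : WithBot ℕ∞) (Module.supportDim (X.presheaf.stalk x) M) ≤
      ((LocCoh.depth (X.presheaf.stalk x) M : ℕ∞) : WithBot ℕ∞) := by
  refine (min_le_right _ _).trans ((Module.supportDim_le_ringKrullDim _ M).trans ?_)
  rcases dim_le_one_of_notMem hx with h | h
  · rw [h]; exact WithBot.coe_le_coe.2 zero_le
  · rw [h]
    haveI := GrothLib.QuasiFlat.finite_stalk F hF x
    have e' : LocCoh.depth (X.presheaf.stalk x) (F.presheaf.stalk x) = LocCoh.depth (X.presheaf.stalk x) M :=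
      GrothLib.Depth.idealDepth_eq_of_equiv _ e
    rw [← e']
    refine WithBot.coe_le_coe.2 ?_
    rcases subsingleton_or_nontrivial (F.presheaf.stalk x) with hN | hN
    · rw [GrothLib.Depth.depth_eq_top_of_subsingleton]; exact le_top
    by_contra hlt
    obtain ⟨q, hq, hle⟩ := GrothLib.Depth.exists_associatedPrime_ge (M := F.presheaf.stalk x)
      (IsLocalRing.maximalIdeal.isMaximal _).ne_top hlt
    obtain rfl := ((IsLocalRing.maximalIdeal.isMaximal (X.presheaf.stalk x)).eq_of_le hq.isPrime.ne_top hle).symm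
    exact hass x hq h

end GrothLib.ZClosure
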