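import Groth.Agent.Lib.ZClos.Criterion

/-!
# The Z-closure: locality of purity and closedness
-/

set_option autoImplicit false
universe u

open CategoryTheory CategoryTheory.Limits AlgebraicGeometry TopologicalSpace Opposite

namespace GrothLib.ZClosure

variable {X : Scheme.{u}} {Z : Set X}

theorem res_injective_congr (F : X.Modules) {a b a' b' : X.Opens} (h : a ≤ b) (h' : a' ≤ b')
    (ea : a = a') (eb : b = b') : Function.Injective (res F h) ↔ Function.Injective (res F h') := by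
  subst ea; subst eb; rfl

theorem res_bijective_congr (F : X.Modules) {a b a' b' : X.Opens} (h : a ≤ b) (h' : a' ≤ b')
    (ea : a = a') (eb : b = b') : Function.Bijective (res F h) ↔ Function.Bijective (res F h') := by
  subst ea; subst eb; rfl

/-- The trace on an open subscheme of a member of the index. -/
noncomputable def clPreimage (V : X.Opens) (T : _root_.ZClos.Cl Z) : _root_.ZClos.Cl (V.ι.base ⁻¹' Z) :=
  ⟨⟨V.ι.base ⁻¹' (T.1 : Set X), T.1.isClosed.preimage V.ι.continuous⟩, Set.preimage_mono T.2⟩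

theorem image_inf_preimage (V : X.Opens) (T : _root_.ZClos.Cl Z) {W : X.Opens} (hW : W ≤ V) :
    V.ι ''ᵁ (V.ι ⁻¹ᵁ W ⊓ (clPreimage V T).U) = W ⊓ T.U := by
  refine Opens.ext (Set.ext fun x => ⟨?_, fun hx => ⟨⟨x, hW hx.1⟩, ⟨hx.1, hx.2⟩, rfl⟩⟩)
  rintro ⟨y, ⟨h1, h2⟩, rfl⟩
  exact ⟨h1, h2⟩

variable [IsLocallyNoetherian X]

/-- A member of the index on an open subscheme agrees, on a quasi-compact open, with one on the whole scheme. -/
theorem exists_cl_image (hZ : StableUnderSpecialization Z) (V : X.Opens) (T : _root_.ZClos.Cl (V.ι.base ⁻¹' Z))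
    {W : (V : Scheme.{u}).Opens} (hW : IsCompact (W : Set (V : Scheme.{u}))) :
    ∃ T' : _root_.ZClos.Cl Z, V.ι ''ᵁ (W ⊓ T.U) = V.ι ''ᵁ W ⊓ T'.U := by
  have hW' : IsCompact ((V.ι ''ᵁ W : X.Opens) : Set X) := hW.image V.ι.continuous
  have hinj : Function.Injective V.ι.base := V.ι.isOpenEmbedding.injective
  have hS : closure (V.ι.base '' ((W : Set (V : Scheme.{u})) ∩ T.1)) ∩ (V.ι ''ᵁ W : X.Opens) ⊆
      V.ι.base '' ((W : Set (V : Scheme.{u})) ∩ T.1) := by
    rintro _ ⟨hcl, y, hy, rfl⟩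
    refine ⟨y, ⟨hy, ?_⟩, rfl⟩
    refine T.1.isClosed.closure_subset (closure_mono (Set.inter_subset_right (s := (W : Set (V : Scheme.{u})))) (a := y) ?_)
    rw [V.ι.isOpenEmbedding.isInducing.closure_eq_preimage_closure_image]
    exact hcl
  obtain ⟨T', h1, h2⟩ := exists_cl hZ hW' (S := V.ι.base '' ((W : Set (V : Scheme.{u})) ∩ T.1))
    (Set.image_mono Set.inter_subset_left) hS (Set.image_subset_iff.2 fun y hy => T.2 hy.2)
  refine ⟨T', Opens.ext (Set.ext fun x => ⟨?_, ?_⟩)⟩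
  · rintro ⟨y, ⟨hy1, hy2⟩, rfl⟩
    refine ⟨⟨y, hy1, rfl⟩, fun h => ?_⟩
    obtain ⟨z, ⟨-, hz⟩, e⟩ := h2 ⟨h, ⟨y, hy1, rfl⟩⟩
    exact hy2 (hinj e ▸ hz)
  · rintro ⟨⟨y, hy1, rfl⟩, hx⟩
    exact ⟨y, ⟨hy1, fun h => hx (h1 ⟨y, ⟨hy1, h⟩, rfl⟩)⟩, rfl⟩

omit [IsLocallyNoetherian X] in
theorem isCompact_preimage_of_le (V : X.Opens) {W : X.Opens} (hW : IsCompact (W : Set X)) (h : W ≤ V) :
    IsCompact ((V.ι ⁻¹ᵁ W : (V : Scheme.{u}).Opens) : Set (V : Scheme.{u})) := by
  rw [V.ι.isOpenEmbedding.isInducing.isCompact_iff]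
  convert hW using 1
  refine Set.ext fun x => ⟨?_, fun hx => ⟨⟨x, h hx⟩, hx, rfl⟩⟩
  rintro ⟨y, hy, rfl⟩
  exact hy

theorem isZPure_iff_of_cover (hZ : StableUnderSpecialization Z) (F : X.Modules) {ι : Type u} (V : ι → X.Opens)
    (hV : iSup V = ⊤) : _root_.ZClos.IsZPure Z F ↔
      ∀ i, _root_.ZClos.IsZPure ((V i).ι.base ⁻¹' Z) ((Scheme.Modules.restrictFunctor (V i).ι).obj F) := by
  refine ⟨fun h i => (isZPure_iff_res _).2 fun T W hW => ?_, fun h => (isZPure_iff F).2 fun T => mono_of_basis _ fun x U hx => ?_⟩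
  · obtain ⟨T', e⟩ := exists_cl_image hZ (V i) T hW
    exact (res_injective_congr F ((V i).ι.image_mono inf_le_left) inf_le_left e rfl).2
      ((isZPure_iff_res F).1 h T' _ (hW.image (V i).ι.continuous))
  · obtain ⟨i, hi⟩ := Opens.mem_iSup.1 (hV ▸ Opens.mem_top x : x ∈ iSup V)
    obtain ⟨W, hxW, hWU, hW⟩ := exists_compact_nhd x (U ⊓ V i) ⟨hx, hi⟩
    have hWV : W ≤ V i := hWU.trans inf_le_right
    refine ⟨W, hxW, hWU.trans inf_le_left, (toDiagram_injective_iff F T W).2 ?_⟩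
    exact (res_injective_congr F ((V i).ι.image_mono inf_le_left) inf_le_left (image_inf_preimage (V i) T hWV)
      (by rw [Scheme.Hom.image_preimage_eq_opensRange_inf, Scheme.Opens.opensRange_ι, inf_eq_right]; exact hWV)).1
      ((isZPure_iff_res _).1 (h i) (clPreimage (V i) T) _ (isCompact_preimage_of_le (V i) hW hWV))

theorem isZClosed_iff_of_cover (hZ : StableUnderSpecialization Z) (F : X.Modules) {ι : Type u} (V : ι → X.Opens)
    (hV : iSup V = ⊤) : _root_.ZClos.IsZClosed Z F ↔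
      ∀ i, _root_.ZClos.IsZClosed ((V i).ι.base ⁻¹' Z) ((Scheme.Modules.restrictFunctor (V i).ι).obj F) := by
  refine ⟨fun h i => (isZClosed_iff_res _).2 fun T W hW => ?_, fun h => (isZClosed_iff F).2 fun T => isIso_of_basis _ fun x U hx => ?_⟩
  · obtain ⟨T', e⟩ := exists_cl_image hZ (V i) T hW
    exact (res_bijective_congr F ((V i).ι.image_mono inf_le_left) inf_le_left e rfl).2
      ((isZClosed_iff_res F).1 h T' _ (hW.image (V i).ι.continuous))
  · obtain ⟨i, hi⟩ := Opens.mem_iSup.1 (hV ▸ Opens.mem_top x : x ∈ iSup V)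
    obtain ⟨W, hxW, hWU, hW⟩ := exists_compact_nhd x (U ⊓ V i) ⟨hx, hi⟩
    have hWV : W ≤ V i := hWU.trans inf_le_right
    refine ⟨W, hxW, hWU.trans inf_le_left, (toDiagram_bijective_iff F T W).2 ?_⟩
    exact (res_bijective_congr F ((V i).ι.image_mono inf_le_left) inf_le_left (image_inf_preimage (V i) T hWV)
      (by rw [Scheme.Hom.image_preimage_eq_opensRange_inf, Scheme.Opens.opensRange_ι, inf_eq_right]; exact hWV)).1
      ((isZClosed_iff_res _).1 (h i) (clPreimage (V i) T) _ (isCompact_preimage_of_le (V i) hW hWV))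

end GrothLib.ZClosure
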