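import Groth.Agent.Lib.ZClos.DepthAt
import Groth.Agent.Lib.ZClos.Local
import Groth.Agent.Lib.QCoh.GenericPoint
import Groth.Agent.Lib.QCoh.Coherent
import Groth.Agent.Lib.HomSh.Criterion
import Groth.Agent.Lib.Depth.CM

/-!
# Consequences of the depth criteria for the Z-closure
-/

set_option autoImplicit false
set_option linter.style.haveILetI false
universe u

open CategoryTheory CategoryTheory.Limits AlgebraicGeometry TopologicalSpace Opposite

namespace GrothLib.ZClosure

open GrothLib.WeakAss (primeAt notMem_primeAt_iff)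

variable {X : Scheme.{u}} {Z : Set X} [IsLocallyNoetherian X]

theorem isZClosedAt_of_isZClosed {F : X.Modules} (h : _root_.ZClos.IsZClosed Z F) (x : X) :
    _root_.ZClos.IsZClosedAt Z F x := by
  haveI : IsIso (_root_.ZClos.rhoApp Z F) := h
  haveI : IsIso (_root_.ZClos.rhoApp Z F).mapPresheaf :=
    inferInstanceAs (IsIso ((Scheme.Modules.toPresheaf X).map (_root_.ZClos.rhoApp Z F)))
  exact (ConcreteCategory.isIso_iff_bijective _).1
    (inferInstanceAs (IsIso ((TopCat.Presheaf.stalkFunctor (C := Ab.{u}) x).map (_root_.ZClos.rhoApp Z F).mapPresheaf)))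

/-- Closedness at every point of an open gives bijective restrictions inside it. -/
theorem res_bijective_of_closedAt (F : X.Modules) {V : X.Opens}
    (h : ∀ x ∈ V, _root_.ZClos.IsZClosedAt Z F x) {W : X.Opens} (hWV : W ≤ V) (T : _root_.ZClos.Cl Z) :
    Function.Bijective (F.presheaf.map (homOfLE (inf_le_left : W ⊓ T.U ≤ W)).op) := by
  have hpure : ∀ {A : X.Opens} (hA : A ≤ W) (T' : _root_.ZClos.Cl Z) (s : Γ(F, A)),
      res F (img_le T' A) s = 0 → s = 0 := fun {A} hA T' s hs =>
    section_ext F s 0 fun x hx => (germ_eq_zero_of_isZPureAt F (h x (hWV (hA hx))).1 hx T' s hs).trans (map_zero _).symm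
  have e : img T W = W ⊓ T.U := by rw [img_eq, inf_comm]
  refine ⟨(injective_iff_map_eq_zero _).2 fun s hs => hpure le_rfl T s ?_, fun σ => ?_⟩
  · rw [← res_res F e.le inf_le_left s, show res F inf_le_left s = 0 from hs, map_zero]
  · let I := {O : X.Opens // ∃ (hO : O ≤ W) (c : Γ(F, O)),
      res F (img_le T O) c = res F ((img_mono (le_refl T) hO).trans e.le) σ}
    choose hI sf hsf using fun i : I => i.2
    have hcov : W ≤ iSup fun i : I => i.1 := by
      intro x hx
      obtain ⟨O, hxO, hOW, c, T', hT, hc⟩ := exists_extension_of_surjective F (h x (hWV hx)).2 hx T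
        (res F e.le σ)
      refine Opens.mem_iSup.2 ⟨⟨O, hOW, c, ?_⟩, hxO⟩
      rw [res_res] at hc
      rw [← sub_eq_zero]
      refine hpure ((img_le T O).trans hOW) T' _ ?_
      have hI1 : img T' (img T O) ≤ img T' O := fun z hz => mem_img.2 ⟨(mem_img.1 hz).1, (mem_img.1 (mem_img.1 hz).2).2⟩
      rw [map_sub, res_res, res_res, ← res_res F hI1 (img_le T' O) c, hc, res_res, sub_self]
    obtain ⟨s, hs, -⟩ := TopCat.Sheaf.existsUnique_gluing'
      (F := (⟨F.presheaf, F.isSheaf⟩ : TopCat.Sheaf Ab.{u} X.carrier)) (fun i : I => i.1) W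
      (fun i => homOfLE (hI i)) hcov sf
      (fun i j => by
        show res F (inf_le_left : i.1 ⊓ j.1 ≤ i.1) (sf i) = res F (inf_le_right : i.1 ⊓ j.1 ≤ j.1) (sf j)
        rw [← sub_eq_zero]
        refine hpure (inf_le_left.trans (hI i)) T _ ?_
        rw [map_sub, res_res, res_res, ← res_res F (img_mono le_rfl inf_le_left) (img_le T i.1) (sf i), hsf i,
          ← res_res F (img_mono le_rfl inf_le_right) (img_le T j.1) (sf j), hsf j, res_res, res_res, sub_self])
    refine ⟨s, section_ext F _ _ fun x hx => ?_⟩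
    obtain ⟨i, hi⟩ := Opens.mem_iSup.1 (hcov hx.1)
    have hxI : x ∈ img T i.1 := mem_img.2 ⟨hx.2, hi⟩
    have e2 : res F (hI i) s = sf i := hs i
    have e3 := congrArg (F.presheaf.germ (img T i.1) x hxI) (hsf i)
    rw [germ_res, germ_res] at e3
    show F.presheaf.germ _ x hx (res F inf_le_left s) = _
    rw [germ_res, ← germ_res F (hI i) hi s, e2]
    exact e3

/-- Closedness on an open subscheme is closedness at its points. -/
theorem isZClosed_restrict_iff (hZ : StableUnderSpecialization Z) (F : X.Modules) (V : X.Opens) :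
    _root_.ZClos.IsZClosed (V.ι.base ⁻¹' Z) ((Scheme.Modules.restrictFunctor V.ι).obj F) ↔
      ∀ x ∈ V, _root_.ZClos.IsZClosedAt Z F x := by
  refine ⟨fun h x hx => ?_, fun h => (isZClosed_iff_res _).2 fun T W hW => ?_⟩
  · have hb : ∀ (T : _root_.ZClos.Cl Z) (W : X.Opens), IsCompact (W : Set X) → W ≤ V →
        Function.Bijective (F.presheaf.map (homOfLE (inf_le_left : W ⊓ T.U ≤ W)).op) := fun T W hW hWV =>
      (res_bijective_congr F (V.ι.image_mono inf_le_left) inf_le_left (image_inf_preimage V T hWV)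
        (by rw [Scheme.Hom.image_preimage_eq_opensRange_inf, Scheme.Opens.opensRange_ι, inf_eq_right]; exact hWV)).1
        ((isZClosed_iff_res _).1 h (clPreimage V T) _ (isCompact_preimage_of_le V hW hWV))
    refine stalk_bijective_of_basis (_root_.ZClos.rhoApp Z F) x fun U hxU => ?_
    obtain ⟨W, hxW, hWU, hW⟩ := exists_compact_nhd x (U ⊓ V) ⟨hxU, hx⟩
    have hWV : W ≤ V := hWU.trans inf_le_right
    refine ⟨W, hxW, hWU.trans inf_le_left, (injective_iff_map_eq_zero _).2 fun s hs => ?_, fun t => ?_⟩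
    · rw [rhoApp_app F ⊥] at hs
      obtain ⟨T', hT, h0⟩ := iota_eq_zero F hW ⊥ _ hs
      rw [res_res] at h0
      exact ((toDiagram_bijective_iff F T' W).2 (hb T' W hW hWV)).1 (h0.trans (map_zero _).symm)
    · obtain ⟨T, σ, rfl⟩ := exists_iota_eq F hW t
      obtain ⟨s, hs⟩ := ((toDiagram_bijective_iff F T W).2 (hb T W hW hWV)).2 σ
      refine ⟨s, ?_⟩
      rw [rhoApp_app F T]
      exact congrArg (iota F T W) hs
  · obtain ⟨T', e⟩ := exists_cl_image hZ V T hW
    refine (res_bijective_congr F (V.ι.image_mono inf_le_left) inf_le_left e rfl).2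
      (res_bijective_of_closedAt F h ?_ T')
    rintro _ ⟨y, -, rfl⟩
    exact y.2

variable (F : X.Modules) (hF : Coh.IsCoh F)
include hF

theorem isOpen_isZClosedAt (hH : Coh.IsCoh ((_root_.ZClos.H0 Z).obj F)) :
    IsOpen {x : X | _root_.ZClos.IsZClosedAt Z F x} :=
  GrothLib.HomSh.isOpen_bijective_stalk (GrothLib.HomSh.hasRel_of_isCoh hF) (GrothLib.HomSh.hasRel_of_isCoh hH)
    (_root_.ZClos.rhoApp Z F)

theorem two_le_depth_H0 (hZ : StableUnderSpecialization Z) (hH : Coh.IsCoh ((_root_.ZClos.H0 Z).obj F)) {x : X}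
    (hx : x ∈ Z) :
    (2 : ℕ∞) ≤ LocCoh.depth (X.presheaf.stalk x) (((_root_.ZClos.H0 Z).obj F).presheaf.stalk x) :=
  two_le_depth_of_isZClosedAt _ hH hZ (isZClosedAt_of_isZClosed (isZClosed_H0 F) x) specializes_rfl hx

/-- The closure of a point of `Z` has codimension two in that of an associated point off `Z`. -/
theorem two_le_dim_quot (hZ : StableUnderSpecialization Z) (hH : Coh.IsCoh ((_root_.ZClos.H0 Z).obj F))
    {x : X} (hx : Curv2.IsAssPoint F x) (hxZ : x ∉ Z) {y : X} (hy : y ∈ Z) (h : x ⤳ y) :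
    (2 : WithBot ℕ∞) ≤ ringKrullDim (X.presheaf.stalk y ⧸
      (IsLocalRing.maximalIdeal (X.presheaf.stalk x)).comap (X.presheaf.stalkSpecializes h).hom) := by
  haveI := hF.1
  haveI := hH.1
  let H := (_root_.ZClos.H0 Z).obj F
  obtain ⟨_, ⟨W, hW, rfl⟩, hyW, -⟩ := X.isBasis_affineOpens.exists_subset_of_mem_open (Set.mem_univ y) isOpen_univ
  replace hW : IsAffineOpen W := hW
  have hxW : x ∈ W := h.mem_open W.2 hyW
  haveI : IsNoetherianRing Γ(X, W) := IsLocallyNoetherian.component_noetherian ⟨W, hW⟩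
  have hass : primeAt x hxW ∈ associatedPrimes Γ(X, W) Γ(H, W) := by
    obtain ⟨-, z, hz⟩ := isAssociatedPrime_iff.1 ((AssPts.ass_iff F hW hxW).1 hx)
    refine isAssociatedPrime_iff.2 ⟨inferInstance, (_root_.ZClos.rhoApp Z F).app W z, ?_⟩
    ext a
    rw [Submodule.mem_colon_singleton, Submodule.mem_bot, ← Scheme.Modules.Hom.app_smul]
    constructor
    · intro ha
      have haz : a • z = 0 := by
        have h1 : a ∈ (⊥ : Submodule Γ(X, W) Γ(F, W)).colon {z} := hz ▸ ha
        rwa [Submodule.mem_colon_singleton, Submodule.mem_bot] at h1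
      rw [haz, map_zero]
    · intro ha
      have h0 : F.presheaf.germ W x hxW (a • z) = 0 := (isZClosedAt_of_notMem F hxZ).1 (by
        rw [rhoStalk_germ, ha, map_zero, map_zero])
      obtain ⟨c, hc, hca⟩ := (WeakAss.germ_eq_zero_iff hW hxW _).1 h0
      have h2 : c * a ∈ primeAt x hxW := by
        rw [hz, Submodule.mem_colon_singleton, Submodule.mem_bot, mul_smul]
        exact hca
      exact (Ideal.IsPrime.mem_or_mem inferInstance h2).resolve_left hc
  letI := X.presheaf.algebra_section_stalk ⟨y, hyW⟩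
  letI : Module Γ(X, W) (H.presheaf.stalk y) := Module.compHom _ (X.presheaf.germ W y hyW).hom
  haveI : IsScalarTower Γ(X, W) (X.presheaf.stalk y) (H.presheaf.stalk y) :=
    IsScalarTower.of_algebraMap_smul fun _ _ => rfl
  haveI := FlatFP.isLocalization_stalk_primeAt hW hyW
  obtain ⟨g, hg, -⟩ := FlatFP.isLocalizedModule_germ H hW hyW
  let p := (IsLocalRing.maximalIdeal (X.presheaf.stalk x)).comap (X.presheaf.stalkSpecializes h).hom
  have hp : p ∈ associatedPrimes (X.presheaf.stalk y) (H.presheaf.stalk y) := by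
    refine Module.associatedPrimes.mem_associatedPrimes_of_comap_mem_associatedPrimes_of_isLocalizedModule
      (primeAt y hyW).primeCompl g p ?_
    have e : p.comap (algebraMap Γ(X, W) (X.presheaf.stalk y)) = primeAt x hxW := by
      ext a
      rw [← not_iff_not, notMem_primeAt_iff, Scheme.mem_basicOpen _ a x hxW, Ideal.mem_comap, Ideal.mem_comap,
        IsLocalRing.mem_maximalIdeal, mem_nonunits_iff, not_not]
      exact Iff.of_eq (congrArg IsUnit (TopCat.Presheaf.germ_stalkSpecializes_apply X.presheaf hyW h a))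
    rw [e]
    exact hass
  haveI := GrothLib.QuasiFlat.finite_stalk H hH y
  exact le_trans (WithBot.coe_le_coe.2 (two_le_depth_H0 F hF hZ hH hy)) (GrothLib.Depth.depth_le_dim_quotient hp)

/-- Off a pure module the direct images embed in the Z-closure. -/
theorem isCoh_resPush (hZ : StableUnderSpecialization Z) (hass : ∀ x : X, Curv2.IsAssPoint F x → x ∉ Z)
    (hH : Coh.IsCoh ((_root_.ZClos.H0 Z).obj F)) (T : _root_.ZClos.Cl Z) :
    Coh.IsCoh ((_root_.ZClos.resPush T.U).obj F) := by
  haveI := hF.1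
  haveI := hH.1
  have hpure : ∀ {A : X.Opens} (T' : _root_.ZClos.Cl Z) (s : Γ(F, A)), res F (img_le T' A) s = 0 → s = 0 := by
    intro A T' s hs
    refine section_ext F s 0 fun x hx => ?_
    rw [map_zero]
    refine germ_eq_zero_of_isZPureAt F (isZPureAt_of_depth F hF fun y _ hyZ => ?_) hx T' s hs
    haveI := GrothLib.QuasiFlat.finite_stalk F hF y
    rcases subsingleton_or_nontrivial (F.presheaf.stalk y) with hN | hN
    · rw [GrothLib.Depth.depth_eq_top_of_subsingleton]; exact le_top
    by_contra hlt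
    obtain ⟨q, hq, hle⟩ := GrothLib.Depth.exists_associatedPrime_ge (M := F.presheaf.stalk y)
      (IsLocalRing.maximalIdeal.isMaximal _).ne_top hlt
    obtain rfl := ((IsLocalRing.maximalIdeal.isMaximal (X.presheaf.stalk y)).eq_of_le hq.isPrime.ne_top hle).symm
    exact hass y hq hyZ
  let ι' : (_root_.ZClos.resPush T.U).obj F ⟶ (_root_.ZClos.H0 Z).obj F :=
    colimit.ι ((_root_.ZClos.diagram Z).obj F) T
  haveI : Mono ι' := mono_of_basis ι' fun x U hx => by
    obtain ⟨W, hxW, hWU, hW⟩ := exists_compact_nhd x U hx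
    refine ⟨W, hxW, hWU, (injective_iff_map_eq_zero _).2 fun s hs => ?_⟩
    obtain ⟨T', hT, h0⟩ := iota_eq_zero F hW T s hs
    have hle : img T' (img T W) ≤ img T' W := fun z hz => mem_img.2 ⟨(mem_img.1 hz).1, (mem_img.1 (mem_img.1 hz).2).2⟩
    refine hpure (A := img T W) T' s ?_
    rw [← res_res F hle (_root_.ZClos.resPush_le (_root_.ZClos.Cl.U_anti hT) W) s, h0, map_zero]
  haveI : ((_root_.ZClos.resPush T.U).obj F).IsQuasicoherent := by
    show ((Scheme.Modules.pushforward T.U.ι).obj ((Scheme.Modules.restrictFunctor T.U.ι).obj F)).IsQuasicoherent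
    exact GrothLib.QCoh.isQuasicoherent_pushforward _ _
  exact ⟨inferInstance, GrothLib.QCoh.isFiniteType_of_mono ι' hH.2⟩

end GrothLib.ZClosure
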