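import Groth.Agent.Lib.ZClos.Criterion

/-!
# The Z-closure and supports
-/

set_option autoImplicit false
universe u

open CategoryTheory CategoryTheory.Limits AlgebraicGeometry TopologicalSpace Opposite

namespace GrothLib.ZClosure

variable {X : Scheme.{u}} {Z : Set X}

theorem germ_eq_zero_of_res (M : X.Modules) {V W : X.Opens} (h : V ≤ W) {x : X} (hx : x ∈ V) (s : Γ(M, W))
    (h0 : res M h s = 0) : M.presheaf.germ W x (h hx) s = 0 :=
  (germ_res M h hx s).symm.trans ((congrArg _ h0).trans (map_zero _))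

variable [IsLocallyNoetherian X]

/-- A subset of the points of a quasi-compact open lying in `Z` and closed there lies in a member of the index. -/
theorem exists_cl_of_compl (hZ : StableUnderSpecialization Z) {W : X.Opens} (hW : IsCompact (W : Set X))
    (O : X.Opens) (hO : ∀ x ∈ W, x ∉ O → x ∈ Z) :
    ∃ T : _root_.ZClos.Cl Z, ∀ x ∈ W, x ∈ T.U ↔ x ∈ O := by
  obtain ⟨T, h1, h2⟩ := exists_cl hZ hW (S := (W : Set X) \ O) Set.sdiff_subset
    (fun x hx => ⟨hx.2, fun hxO => by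
      obtain ⟨y, hy1, hy2⟩ := mem_closure_iff.1 hx.1 O O.isOpen hxO
      exact hy2.2 hy1⟩)
    (fun x hx => hO x hx.1 hx.2)
  exact ⟨T, fun x hx => ⟨fun hT => by_contra fun hxO => hT (h1 ⟨hx, hxO⟩), fun hxO hT => (h2 ⟨hT, hx⟩).2 hxO⟩⟩

/-- A section whose germs vanish outside `Z` dies in the Z-closure. -/
theorem iota_eq_zero_of_germ (hZ : StableUnderSpecialization Z) (F : X.Modules) {V : X.Opens}
    (hV : IsCompact (V : Set X)) (T : _root_.ZClos.Cl Z) (s : Γ(F, img T V))
    (h : ∀ (x : X) (hx : x ∈ img T V), x ∉ Z → F.presheaf.germ (img T V) x hx s = 0) :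
    iota F T V s = 0 := by
  let O : X.Opens := sSup {O | ∃ hO : O ≤ img T V, res F hO s = 0}
  have hW : IsCompact (img T V : Set X) := isCompact_of_subset hV (img_le T V)
  obtain ⟨T0, hT0⟩ := exists_cl_of_compl hZ hW O fun x hx hxO => by_contra fun hxZ => hxO <| by
    obtain ⟨O', hO', i, i', e⟩ := exists_res_eq_of_germ_eq F hx hx s 0 ((h x hx hxZ).trans (map_zero _).symm)
    exact Opens.mem_sSup.2 ⟨O', ⟨i, e.trans (map_zero _)⟩, hO'⟩
  rw [← iota_res F (le_sup_left : T ≤ T ⊔ T0) V s]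
  refine (congrArg _ (section_ext F (res F (_root_.ZClos.resPush_le (_root_.ZClos.Cl.U_anti le_sup_left) V) s) 0
    fun x hx => ?_)).trans (map_zero _)
  obtain ⟨h1, h2⟩ := mem_img.1 hx
  have hxW : x ∈ img T V := mem_img.2 ⟨fun h => h1 ((le_sup_left : T ≤ T ⊔ T0) h), h2⟩
  obtain ⟨O', ⟨hO', e⟩, hxO'⟩ := Opens.mem_sSup.1
    ((hT0 x hxW).1 fun h => h1 ((le_sup_right : T0 ≤ T ⊔ T0) h))
  exact ((germ_res F _ hx s).trans (germ_eq_zero_of_res F hO' hxO' s e)).trans (map_zero _).symm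

theorem isZero_H0_iff (hZ : StableUnderSpecialization Z) (F : X.Modules) :
    IsZero ((_root_.ZClos.H0 Z).obj F) ↔ ∀ x : X, x ∉ Z → Subsingleton (F.presheaf.stalk x) := by
  refine ⟨fun h x hx => ?_, fun h => ?_⟩
  · have h' : IsZero ((TopCat.Presheaf.stalkFunctor (C := Ab.{u}) x).obj ((_root_.ZClos.H0 Z).obj F).presheaf) :=
      (TopCat.Presheaf.stalkFunctor (C := Ab.{u}) x).map_isZero ((Scheme.Modules.toPresheaf X).map_isZero h)
    haveI : Subsingleton (((_root_.ZClos.H0 Z).obj F).presheaf.stalk x) := AddCommGrpCat.subsingleton_of_isZero h'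
    exact (isZClosedAt_of_notMem F hx).1.subsingleton
  · refine (IsZero.iff_id_eq_zero _).2 (Scheme.Modules.hom_ext _ _ fun U => ?_)
    ext t
    refine (eq_zero_of_locally ((_root_.ZClos.H0 Z).obj F) t fun x hx => ?_).trans rfl
    obtain ⟨W, hxW, hWU, hW⟩ := exists_compact_nhd x U hx
    obtain ⟨T, s, hs⟩ := exists_iota_eq F hW (res _ hWU t)
    refine ⟨W, hWU, hxW, hs.symm.trans (iota_eq_zero_of_germ hZ F hW T s fun y hy hyZ => ?_)⟩
    haveI := h y hyZ
    exact Subsingleton.elim _ _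

theorem injective_app_of_stalk_injective (hZ : StableUnderSpecialization Z) {F G : X.Modules} (u : F ⟶ G)
    (hu : ∀ x : X, x ∉ Z → Function.Injective ((TopCat.Presheaf.stalkFunctor (C := Ab.{u}) x).map u.mapPresheaf))
    (v : (_root_.ZClos.H0 Z).obj F ⟶ G) (hv : _root_.ZClos.rhoApp Z F ≫ v = u) {W : X.Opens}
    (hW : IsCompact (W : Set X)) : Function.Injective (v.app W) := by
  refine (injective_iff_map_eq_zero _).2 fun t ht => ?_
  obtain ⟨T, s, rfl⟩ := exists_iota_eq F hW t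
  refine iota_eq_zero_of_germ hZ F hW T s fun x hx hxZ => hu x hxZ ?_
  refine Eq.trans ?_ (map_zero ((TopCat.Presheaf.stalkFunctor (C := Ab.{u}) x).map u.mapPresheaf).hom).symm
  refine (TopCat.Presheaf.stalkFunctor_map_germ_apply (F := F.presheaf) (img T W) x hx u.mapPresheaf s).trans ?_
  have key : u.app (img T W) s = 0 := by
    rw [← hv, rhoApp_comp_app v T, ← res_iota F T (img_le T W) s ((img_le T (img T W))), app_res, ht, map_zero]
  exact (congrArg _ key).trans (map_zero _)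

theorem isIso_fac (hZ : StableUnderSpecialization Z) {F G : X.Modules} (hG : _root_.ZClos.IsZClosed Z G) (u : F ⟶ G)
    (hu : ∀ x : X, x ∉ Z →
      Function.Bijective ((TopCat.Presheaf.stalkFunctor (C := Ab.{u}) x).map u.mapPresheaf))
    (v : (_root_.ZClos.H0 Z).obj F ⟶ G) (hv : _root_.ZClos.rhoApp Z F ≫ v = u) : IsIso v := by
  have hinj : ∀ {W : X.Opens}, IsCompact (W : Set X) → Function.Injective (v.app W) := fun hW =>
    injective_app_of_stalk_injective hZ u (fun x hx => (hu x hx).1) v hv hW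
  haveI : Mono v := mono_of_basis v fun x U hx => by
    obtain ⟨W, hxW, hWU, hW⟩ := exists_compact_nhd x U hx
    exact ⟨W, hxW, hWU, hinj hW⟩
  refine isIso_of_basis v fun x U hx => ?_
  obtain ⟨W, hxW, hWU, hW⟩ := exists_compact_nhd x U hx
  refine ⟨W, hxW, hWU, hinj hW, fun y => ?_⟩
  let O : X.Opens := sSup {O | ∃ (hO : O ≤ W) (s : Γ((_root_.ZClos.H0 Z).obj F, O)), v.app O s = res G hO y}
  have hOW : O ≤ W := sSup_le fun O hO => hO.1
  obtain ⟨T0, hT0⟩ := exists_cl_of_compl hZ hW O fun z hz hzO => by_contra fun hzZ => hzO <| by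
    obtain ⟨e, he⟩ := (hu z hzZ).2 (G.presheaf.germ W z hz y)
    obtain ⟨U', hzU', s, rfl⟩ := TopCat.Presheaf.exists_germ_eq F.presheaf e
    obtain ⟨O', hzO', i, i', e'⟩ := exists_res_eq_of_germ_eq G hzU' hz (u.app U' s) y
      ((TopCat.Presheaf.stalkFunctor_map_germ_apply (F := F.presheaf) U' z hzU' u.mapPresheaf s).symm.trans he)
    refine Opens.mem_sSup.2 ⟨O', ⟨i', res _ i ((_root_.ZClos.rhoApp Z F).app U' s), ?_⟩, hzO'⟩
    rw [app_res, show v.app U' ((_root_.ZClos.rhoApp Z F).app U' s) = u.app U' s from hv ▸ rfl]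
    exact e'
  have hO : O = W ⊓ T0.U := Opens.ext <| Set.ext fun z =>
    ⟨fun hz => ⟨hOW hz, (hT0 z (hOW hz)).2 hz⟩, fun hz => (hT0 z hz.1).1 hz.2⟩
  obtain ⟨t, ht⟩ : ∃ t : Γ((_root_.ZClos.H0 Z).obj F, O), v.app O t = res G hOW y := by
    let I := {O' : X.Opens // ∃ (hO : O' ≤ W) (s : Γ((_root_.ZClos.H0 Z).obj F, O')), v.app O' s = res G hO y}
    choose hI sf hsf using fun i : I => i.2
    obtain ⟨t, ht, -⟩ := TopCat.Sheaf.existsUnique_gluing'
      (F := (⟨((_root_.ZClos.H0 Z).obj F).presheaf, ((_root_.ZClos.H0 Z).obj F).isSheaf⟩ : TopCat.Sheaf Ab.{u} X.carrier))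
      (fun i : I => i.1) O (fun i => homOfLE (le_sSup i.2))
      (sSup_le fun O' hO' => le_iSup (fun i : I => i.1) ⟨O', hO'⟩) sf
      (fun i j => app_injective_of_mono v _ <|
        (app_res v inf_le_left (sf i)).trans <| (congrArg _ (hsf i)).trans <|
          (res_res G inf_le_left (hI i) y).trans <| (res_res G inf_le_right (hI j) y).symm.trans <|
            (congrArg _ (hsf j).symm).trans (app_res v inf_le_right (sf j)).symm)
    refine ⟨t, section_ext G _ _ fun z hz => ?_⟩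
    obtain ⟨O', hO', hzO'⟩ := Opens.mem_sSup.1 hz
    have hle : O' ≤ O := le_sSup hO'
    rw [← germ_res G hle hzO', ← germ_res G hle hzO' (res G hOW y), ← app_res, res_res]
    exact congrArg _ ((congrArg _ (ht ⟨O', hO'⟩)).trans (hsf ⟨O', hO'⟩))
  have hle : W ⊓ T0.U ≤ W := inf_le_left
  obtain ⟨t', ht'⟩ := ((isZClosed_iff_res _).1 (isZClosed_H0 (Z := Z) F) T0 W hW).2 (res _ hO.ge t)
  refine ⟨t', ((isZClosed_iff_res _).1 hG T0 W hW).1 ?_⟩
  refine (app_res v hle t').symm.trans ((congrArg _ ht').trans ?_)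
  exact (app_res v hO.ge t).trans ((congrArg _ ht).trans (res_res G hO.ge hOW y))

end GrothLib.ZClosure
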