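import Groth.Agent.Lib.ZClos.Basic
import Groth.Agent.Lib.QCoh.LocGenCases

/-!
# The Z-closure: criteria for purity and closedness
-/

set_option autoImplicit false
universe u

open CategoryTheory CategoryTheory.Limits AlgebraicGeometry TopologicalSpace Opposite

namespace GrothLib.ZClosure

variable {X : Scheme.{u}}

section Closure

variable [IsLocallyNoetherian X]

theorem isCompact_of_subset {K t : Set X} (hK : IsCompact K) (h : t ⊆ K) : IsCompact t := by
  refine GrothLib.QCoh.isCompact_of_subset_of_locallyNoetherianSpace (fun x => ?_) hK h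
  obtain ⟨_, ⟨W, hW, rfl⟩, hxW, -⟩ := X.isBasis_affineOpens.exists_subset_of_mem_open (Set.mem_univ x) isOpen_univ
  haveI := IsLocallyNoetherian.component_noetherian (X := X) ⟨W, hW⟩
  exact ⟨W, hxW, noetherianSpace_of_isAffineOpen W hW⟩

/-- The closure of a subset of `Z`, closed in a quasi-compact open, stays in `Z`. -/
theorem closure_subset {Z : Set X} (hZ : StableUnderSpecialization Z) {W : X.Opens}
    (hW : IsCompact (W : Set X)) {S : Set X} (hSW : S ⊆ W) (hS : closure S ∩ W ⊆ S) (hSZ : S ⊆ Z) :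
    closure S ⊆ Z := by
  haveI : NoetherianSpace (W : Set X) :=
    (noetherianSpace_set_iff _).2 fun t ht => isCompact_of_subset hW ht
  haveI : QuasiSober (W : Set X) := W.2.isOpenEmbedding_subtypeVal.quasiSober
  let S' : Set (W : Set X) := Subtype.val ⁻¹' S
  have hS' : IsClosed S' := by
    have : S' = Subtype.val ⁻¹' closure S := Set.ext fun x =>
      ⟨fun h => subset_closure h, fun h => hS ⟨h, x.2⟩⟩
    rw [this]
    exact isClosed_closure.preimage continuous_subtype_val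
  obtain ⟨t, htf, htc, hti, hte⟩ := NoetherianSpace.exists_finite_set_isClosed_irreducible hS'
  have hSt : S ⊆ ⋃ C ∈ t, Subtype.val '' C := fun x hx => by
    obtain ⟨C, hC, hxC⟩ := hte ▸ (show (⟨x, hSW hx⟩ : (W : Set X)) ∈ S' from hx)
    exact Set.mem_iUnion₂.2 ⟨C, hC, _, hxC, rfl⟩
  refine (closure_mono hSt).trans ?_
  rw [htf.closure_biUnion]
  refine Set.iUnion₂_subset fun C hC x hx => ?_
  have hg := (hti C hC).isGenericPoint_genericPoint (htc C hC)
  have hηS : ((hti C hC).genericPoint : X) ∈ S := by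
    have h : (hti C hC).genericPoint ∈ S' := hte ▸ ⟨C, hC, hg.mem⟩
    exact h
  refine hZ (specializes_iff_mem_closure.2 ?_) (hSZ hηS)
  refine closure_minimal ?_ isClosed_closure hx
  rintro _ ⟨y, hy, rfl⟩
  have h2 := image_closure_subset_closure_image continuous_subtype_val
    (s := {(hti C hC).genericPoint}) ⟨y, (hg.def).symm ▸ hy, rfl⟩
  rwa [Set.image_singleton] at h2

/-- The closed subset of `Z` generated by a subset of `Z` closed in a quasi-compact open. -/
theorem exists_cl {Z : Set X} (hZ : StableUnderSpecialization Z) {W : X.Opens}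
    (hW : IsCompact (W : Set X)) {S : Set X} (hSW : S ⊆ W) (hS : closure S ∩ W ⊆ S) (hSZ : S ⊆ Z) :
    ∃ T : _root_.ZClos.Cl Z, S ⊆ (T.1 : Set X) ∧ (T.1 : Set X) ∩ W ⊆ S :=
  ⟨⟨⟨closure S, isClosed_closure⟩, closure_subset hZ hW hSW hS hSZ⟩, subset_closure, hS⟩

end Closure

section Diagram

variable {Z : Set X}

theorem mem_img {T : _root_.ZClos.Cl Z} {V : X.Opens} {x : X} :
    x ∈ img T V ↔ x ∉ (T.1 : Set X) ∧ x ∈ V := by
  rw [img_eq]
  exact Iff.rfl

theorem toDiagram_injective_iff (F : X.Modules) (T : _root_.ZClos.Cl Z) (V : X.Opens) :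
    Function.Injective ((_root_.ZClos.toDiagram Z F T).app V) ↔
      Function.Injective (F.presheaf.map (homOfLE (inf_le_left : V ⊓ T.U ≤ V)).op) := by
  have e : V ⊓ T.U = img T V := by rw [img_eq, inf_comm]
  have hb := res_bijective_of_eq F e.le e
  have hcomp : ⇑(F.presheaf.map (homOfLE (inf_le_left : V ⊓ T.U ≤ V)).op) =
      ⇑(res F e.le) ∘ ⇑((_root_.ZClos.toDiagram Z F T).app V) :=
    funext fun s => (res_res F e.le (img_le T V) s).symm
  rw [hcomp]
  exact ⟨fun h => hb.1.comp h, fun h => h.of_comp⟩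

theorem toDiagram_bijective_iff (F : X.Modules) (T : _root_.ZClos.Cl Z) (V : X.Opens) :
    Function.Bijective ((_root_.ZClos.toDiagram Z F T).app V) ↔
      Function.Bijective (F.presheaf.map (homOfLE (inf_le_left : V ⊓ T.U ≤ V)).op) := by
  have e : V ⊓ T.U = img T V := by rw [img_eq, inf_comm]
  have hb := res_bijective_of_eq F e.le e
  have hcomp : ⇑(F.presheaf.map (homOfLE (inf_le_left : V ⊓ T.U ≤ V)).op) =
      ⇑(res F e.le) ∘ ⇑((_root_.ZClos.toDiagram Z F T).app V) :=
    funext fun s => (res_res F e.le (img_le T V) s).symm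
  rw [hcomp]
  exact ⟨fun h => hb.comp h, fun h => (hb.of_comp_iff' _).1 h⟩

/-- Restriction to the complement turns the unit into an isomorphism. -/
theorem isIso_restrict_unit (U : X.Opens) (F : X.Modules) :
    IsIso ((Scheme.Modules.restrictFunctor U.ι).map ((_root_.ZClos.resPushUnit U).app F)) :=
  IsIso.of_isIso_fac_right ((Scheme.Modules.restrictAdjunction U.ι).left_triangle_components F)

/-- Maps into a direct image of a restriction only depend on the restriction. -/
theorem hom_ext_resPush (U : X.Opens) {A B M : X.Modules} (a : A ⟶ B)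
    [IsIso ((Scheme.Modules.restrictFunctor U.ι).map a)] (f g : B ⟶ (_root_.ZClos.resPush U).obj M)
    (h : a ≫ f = a ≫ g) : f = g := by
  apply ((Scheme.Modules.restrictAdjunction U.ι).homEquiv B _).symm.injective
  rw [← cancel_epi ((Scheme.Modules.restrictFunctor U.ι).map a),
    ← (Scheme.Modules.restrictAdjunction U.ι).homEquiv_naturality_left_symm a f,
    ← (Scheme.Modules.restrictAdjunction U.ι).homEquiv_naturality_left_symm a g]
  exact congrArg _ h

theorem isIso_toDiagram_of_isZClosed {F : X.Modules} (h : _root_.ZClos.IsZClosed Z F) (T : _root_.ZClos.Cl Z) :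
    IsIso (_root_.ZClos.toDiagram Z F T) := by
  obtain ⟨ρi, hρ1, -⟩ := (h : IsIso (_root_.ZClos.rhoApp Z F))
  let r : ((_root_.ZClos.diagram Z).obj F).obj T ⟶ F :=
    colimit.ι ((_root_.ZClos.diagram Z).obj F) T ≫ ρi
  have h1 : _root_.ZClos.toDiagram Z F T ≫ r = 𝟙 F :=
    (Category.assoc _ _ _).symm.trans
      ((congrArg (· ≫ ρi) (_root_.ZClos.rhoApp_eq Z F T).symm).trans hρ1)
  haveI := isIso_restrict_unit T.U F
  have h2 : r ≫ _root_.ZClos.toDiagram Z F T = 𝟙 _ :=
    hom_ext_resPush T.U ((_root_.ZClos.resPushUnit T.U).app F) _ _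
      (show _root_.ZClos.toDiagram Z F T ≫ r ≫ _root_.ZClos.toDiagram Z F T = _root_.ZClos.toDiagram Z F T ≫ 𝟙 _ by
        rw [reassoc_of% h1, Category.comp_id])
  exact ⟨r, h1, h2⟩

theorem isZClosed_of_isIso_toDiagram {F : X.Modules} (h : ∀ T : _root_.ZClos.Cl Z, IsIso (_root_.ZClos.toDiagram Z F T)) :
    _root_.ZClos.IsZClosed Z F := by
  show IsIso (_root_.ZClos.rhoApp Z F)
  haveI : ∀ {T T' : _root_.ZClos.Cl Z} (f : T ⟶ T'), IsIso (((_root_.ZClos.diagram Z).obj F).map f) := fun {T T'} f => by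
    haveI := h T
    haveI := h T'
    exact IsIso.of_isIso_fac_left (_root_.ZClos.toDiagram_map Z F f)
  have hι := isIso_ι_of_isInitial (F := (_root_.ZClos.diagram Z).obj F) (isInitialBot (α := _root_.ZClos.Cl Z))
  exact (_root_.ZClos.rhoApp_eq Z F ⊥).symm ▸ @IsIso.comp_isIso _ _ _ _ _ _ _ (h ⊥) hι

theorem isZClosed_iff (F : X.Modules) :
    _root_.ZClos.IsZClosed Z F ↔ ∀ T : _root_.ZClos.Cl Z, IsIso (_root_.ZClos.toDiagram Z F T) :=
  ⟨isIso_toDiagram_of_isZClosed, isZClosed_of_isIso_toDiagram⟩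

/-- The universal property of the Z-closure among Z-closed modules. -/
theorem hom_ext_H0 {F G : X.Modules} (hG : _root_.ZClos.IsZClosed Z G) (v w : (_root_.ZClos.H0 Z).obj F ⟶ G)
    (h : _root_.ZClos.rhoApp Z F ≫ v = _root_.ZClos.rhoApp Z F ≫ w) : v = w := by
  apply colimit.hom_ext
  intro T
  haveI := isIso_toDiagram_of_isZClosed hG T
  haveI := isIso_restrict_unit T.U F
  rw [← cancel_mono (_root_.ZClos.toDiagram Z G T)]
  refine hom_ext_resPush T.U ((_root_.ZClos.resPushUnit T.U).app F) _ _ ?_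
  have e := _root_.ZClos.rhoApp_eq Z F T
  have h' : (_root_.ZClos.toDiagram Z F T ≫ colimit.ι ((_root_.ZClos.diagram Z).obj F) T) ≫ v =
      (_root_.ZClos.toDiagram Z F T ≫ colimit.ι ((_root_.ZClos.diagram Z).obj F) T) ≫ w := e ▸ h
  exact ((Category.assoc _ _ _).symm.trans
    ((congrArg (· ≫ _root_.ZClos.toDiagram Z G T) ((Category.assoc _ _ _).symm.trans (h'.trans (Category.assoc _ _ _)))).trans
      (Category.assoc _ _ _)) :)

theorem existsUnique_fac {F G : X.Modules} (hG : _root_.ZClos.IsZClosed Z G) (f : F ⟶ G) :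
    ∃! v : (_root_.ZClos.H0 Z).obj F ⟶ G, _root_.ZClos.rhoApp Z F ≫ v = f := by
  haveI : IsIso (_root_.ZClos.rhoApp Z G) := hG
  have h := (_root_.ZClos.rho Z).naturality f
  refine ⟨(_root_.ZClos.H0 Z).map f ≫ inv (_root_.ZClos.rhoApp Z G), ?_, fun w hw => ?_⟩
  · show _root_.ZClos.rhoApp Z F ≫ (_root_.ZClos.H0 Z).map f ≫ inv (_root_.ZClos.rhoApp Z G) = f
    rw [← Category.assoc, IsIso.comp_inv_eq]
    exact h.symm
  · refine hom_ext_H0 hG _ _ (hw.trans ?_)
    rw [← Category.assoc, eq_comm, IsIso.comp_inv_eq]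
    exact h.symm

variable [IsLocallyNoetherian X]

theorem isZPure_iff (F : X.Modules) :
    _root_.ZClos.IsZPure Z F ↔ ∀ T : _root_.ZClos.Cl Z, Mono (_root_.ZClos.toDiagram Z F T) := by
  refine ⟨fun h T => ?_, fun h => mono_of_basis _ fun x U hx => ?_⟩
  · have h' : Mono (_root_.ZClos.rhoApp Z F) := h
    exact @mono_of_mono _ _ _ _ _ (_root_.ZClos.toDiagram Z F T) (colimit.ι ((_root_.ZClos.diagram Z).obj F) T)
      ((_root_.ZClos.rhoApp_eq Z F T) ▸ h')
  · obtain ⟨W, hxW, hWU, hW⟩ := exists_compact_nhd x U hx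
    refine ⟨W, hxW, hWU, (injective_iff_map_eq_zero _).2 fun s hs => ?_⟩
    rw [rhoApp_app F ⊥] at hs
    obtain ⟨T', hT, h0⟩ := iota_eq_zero F hW ⊥ _ hs
    rw [res_res] at h0
    haveI := h T'
    exact app_injective_of_mono (_root_.ZClos.toDiagram Z F T') W (h0.trans (map_zero _).symm)

theorem isZPure_iff_res (F : X.Modules) :
    _root_.ZClos.IsZPure Z F ↔ ∀ (T : _root_.ZClos.Cl Z) (V : X.Opens), IsCompact (V : Set X) →
      Function.Injective (F.presheaf.map (homOfLE (inf_le_left : V ⊓ T.U ≤ V)).op) := by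
  rw [isZPure_iff]
  refine forall_congr' fun T => ⟨fun h V _ => (toDiagram_injective_iff F T V).1 (app_injective_of_mono _ V),
    fun h => mono_of_basis _ fun x U hx => ?_⟩
  obtain ⟨W, hxW, hWU, hW⟩ := exists_compact_nhd x U hx
  exact ⟨W, hxW, hWU, (toDiagram_injective_iff F T W).2 (h W hW)⟩

theorem isZClosed_iff_res (F : X.Modules) :
    _root_.ZClos.IsZClosed Z F ↔ ∀ (T : _root_.ZClos.Cl Z) (V : X.Opens), IsCompact (V : Set X) →
      Function.Bijective (F.presheaf.map (homOfLE (inf_le_left : V ⊓ T.U ≤ V)).op) := by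
  rw [isZClosed_iff]
  refine forall_congr' fun T => ⟨fun h V _ => (toDiagram_bijective_iff F T V).1 (app_bijective_of_isIso _ V),
    fun h => isIso_of_basis _ fun x U hx => ?_⟩
  obtain ⟨W, hxW, hWU, hW⟩ := exists_compact_nhd x U hx
  exact ⟨W, hxW, hWU, (toDiagram_bijective_iff F T W).2 (h W hW)⟩

/-- Off `Z` the map to the Z-closure is bijective on stalks. -/
theorem isZClosedAt_of_notMem (F : X.Modules) {x : X} (hx : x ∉ Z) : _root_.ZClos.IsZClosedAt Z F x := by
  have hT : ∀ (T : _root_.ZClos.Cl Z) {V : X.Opens}, x ∈ V → x ∈ img T V := fun T V h => mem_img.2 ⟨fun hT => hx (T.2 hT), h⟩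
  refine ⟨(injective_iff_map_eq_zero _).2 fun e he => ?_, fun e => ?_⟩
  · obtain ⟨U, hU, s, rfl⟩ := TopCat.Presheaf.exists_germ_eq F.presheaf e
    rw [_root_.ZClos.rhoStalk] at he
    replace he := (TopCat.Presheaf.stalkFunctor_map_germ_apply (F := F.presheaf) U x hU
      (_root_.ZClos.rhoApp Z F).mapPresheaf s).symm.trans he
    replace he := he.trans (map_zero (((_root_.ZClos.H0 Z).obj F).presheaf.germ U x hU).hom).symm
    obtain ⟨O, hO, i, i', e'⟩ := exists_res_eq_of_germ_eq _ hU hU _ _ he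
    obtain ⟨W, hxW, hWO, hW⟩ := exists_compact_nhd x O hO
    have h0 : iota F (⊥ : _root_.ZClos.Cl Z) W (res F ((img_le ⊥ W).trans (hWO.trans i)) s) = 0 := by
      rw [← res_res F (img_le ⊥ W) (hWO.trans i) s, ← rhoApp_app, app_res, ← res_res _ hWO i,
        show res _ i ((_root_.ZClos.rhoApp Z F).app U s) = res _ i' 0 from e', map_zero, map_zero]
    obtain ⟨T', hT', hz⟩ := iota_eq_zero F hW ⊥ _ h0
    rw [res_res] at hz
    exact (germ_res F _ (hT T' hxW) s).symm.trans ((congrArg _ hz).trans (map_zero _))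
  · obtain ⟨U, hU, t, rfl⟩ := TopCat.Presheaf.exists_germ_eq ((_root_.ZClos.H0 Z).obj F).presheaf e
    obtain ⟨W, hxW, hWU, hW⟩ := exists_compact_nhd x U hU
    obtain ⟨T, s, hs⟩ := exists_iota_eq F hW (res _ hWU t)
    refine ⟨F.presheaf.germ (img T W) x (hT T hxW) s, ?_⟩
    refine (TopCat.Presheaf.stalkFunctor_map_germ_apply (F := F.presheaf) (img T W) x (hT T hxW)
      (_root_.ZClos.rhoApp Z F).mapPresheaf s).trans ?_
    have key : (_root_.ZClos.rhoApp Z F).app (img T W) s = res _ (img_le T W) (iota F T W s) := by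
      rw [rhoApp_app F T, res_iota F T (img_le T W) s ((img_le T (img T W)))]
    refine (congrArg _ key).trans ?_
    rw [germ_res, hs, germ_res]

/-- The Z-closure is Z-closed. -/
theorem isZClosed_H0 (F : X.Modules) : _root_.ZClos.IsZClosed Z ((_root_.ZClos.H0 Z).obj F) := by
  rw [isZClosed_iff_res]
  intro T V hV
  have hVU : IsCompact ((V ⊓ T.U : X.Opens) : Set X) := isCompact_of_subset hV Set.inter_subset_left
  have hle : ∀ T1 : _root_.ZClos.Cl Z, img (T1 ⊔ T) V ≤ img T1 (V ⊓ T.U) := fun T1 x hx => by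
    obtain ⟨h1, h2⟩ := mem_img.1 hx
    exact mem_img.2 ⟨fun h => h1 ((le_sup_left : T1 ≤ T1 ⊔ T) h), h2, fun h => h1 ((le_sup_right : T ≤ T1 ⊔ T) h)⟩
  refine ⟨(injective_iff_map_eq_zero _).2 fun t ht => ?_, fun t => ?_⟩
  · obtain ⟨T1, s, rfl⟩ := exists_iota_eq F hV t
    have h12 : img T1 (V ⊓ T.U) ≤ img T1 V := fun x hx => mem_img.2 ⟨(mem_img.1 hx).1, (mem_img.1 hx).2.1⟩
    have h0 : iota F T1 (V ⊓ T.U) (res F h12 s) = 0 := (res_iota F T1 inf_le_left s h12).symm.trans ht
    obtain ⟨T2, h2, hz⟩ := iota_eq_zero F hVU T1 _ h0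
    rw [res_res] at hz
    rw [← iota_res F (h2.trans (le_sup_left : T2 ≤ T2 ⊔ T)) V s,
      ← res_res F (hle T2) ((_root_.ZClos.resPush_le (_root_.ZClos.Cl.U_anti h2) _).trans h12) s, hz, map_zero, map_zero]
  · obtain ⟨T1, y, rfl⟩ := exists_iota_eq F hVU t
    refine ⟨iota F (T1 ⊔ T) V (res F (hle T1) y), ?_⟩
    have h3 : img (T1 ⊔ T) (V ⊓ T.U) ≤ img (T1 ⊔ T) V := fun x hx => mem_img.2 ⟨(mem_img.1 hx).1, (mem_img.1 hx).2.1⟩
    refine (res_iota F (T1 ⊔ T) inf_le_left _ h3).trans ?_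
    rw [res_res]
    exact iota_res F le_sup_left _ y

end Diagram

end GrothLib.ZClosure
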