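import Groth.Agent.Lib.ZClos.Criterion
import Groth.Agent.Lib.Depth.HartogsMod
import Groth.Agent.Lib.Depth.HartogsModConv
import Groth.Agent.Lib.Depth.ModExtend
import Groth.Agent.Lib.Depth.Hartogs
import Groth.Agent.Lib.Depth.CM

/-!
# Purity and closedness at a point in terms of depths at generizations
-/

set_option autoImplicit false
set_option linter.style.haveILetI false
universe u

open CategoryTheory CategoryTheory.Limits AlgebraicGeometry TopologicalSpace Opposite

namespace GrothLib.ZClosure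

open GrothLib.WeakAss (primeAt notMem_primeAt_iff)
open scoped Pointwise

variable {X : Scheme.{u}} {Z : Set X}

theorem rhoStalk_germ (F : X.Modules) {U : X.Opens} {x : X} (hx : x ∈ U) (s : Γ(F, U)) :
    _root_.ZClos.rhoStalk Z F x (F.presheaf.germ U x hx s) =
      ((_root_.ZClos.H0 Z).obj F).presheaf.germ U x hx ((_root_.ZClos.rhoApp Z F).app U s) :=
  TopCat.Presheaf.stalkFunctor_map_germ_apply (F := F.presheaf) U x hx (_root_.ZClos.rhoApp Z F).mapPresheaf s

theorem img_mono {T T' : _root_.ZClos.Cl Z} (hT : T ≤ T') {O V : X.Opens} (h : O ≤ V) :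
    img T' O ≤ img T V := fun _ hy => mem_img.2 ⟨fun hy' => (mem_img.1 hy).1 (hT hy'), h (mem_img.1 hy).2⟩

/-- A section dying off a member of the index has germ in the kernel of the stalk map. -/
theorem germ_eq_zero_of_isZPureAt (F : X.Modules) {x : X} (h : _root_.ZClos.IsZPureAt Z F x) {V : X.Opens}
    (hx : x ∈ V) (T : _root_.ZClos.Cl Z) (s : Γ(F, V)) (hs : res F (img_le T V) s = 0) :
    F.presheaf.germ V x hx s = 0 := by
  refine h ?_
  rw [rhoStalk_germ, rhoApp_app F T, hs, map_zero, map_zero, map_zero]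

variable [IsLocallyNoetherian X]

theorem isZPureAt_of (F : X.Modules) {x : X}
    (h : ∀ (V : X.Opens) (hx : x ∈ V) (T : _root_.ZClos.Cl Z) (s : Γ(F, V)), IsCompact (V : Set X) →
      res F (img_le T V) s = 0 → F.presheaf.germ V x hx s = 0) :
    _root_.ZClos.IsZPureAt Z F x := by
  refine (injective_iff_map_eq_zero _).2 fun e he => ?_
  obtain ⟨U, hU, s, rfl⟩ := TopCat.Presheaf.exists_germ_eq F.presheaf e
  rw [rhoStalk_germ] at he
  replace he := he.trans (map_zero (((_root_.ZClos.H0 Z).obj F).presheaf.germ U x hU).hom).symm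
  obtain ⟨O, hO, i, i', e'⟩ := exists_res_eq_of_germ_eq _ hU hU _ _ he
  obtain ⟨W, hxW, hWO, hW⟩ := exists_compact_nhd x O hO
  have h0 : iota F (⊥ : _root_.ZClos.Cl Z) W (res F (img_le ⊥ W) (res F (hWO.trans i) s)) = 0 := by
    rw [← rhoApp_app, app_res, ← res_res _ hWO i,
      show res _ i ((_root_.ZClos.rhoApp Z F).app U s) = res _ i' 0 from e', map_zero, map_zero]
  obtain ⟨T', hT', hz⟩ := iota_eq_zero F hW ⊥ _ h0
  rw [res_res] at hz
  rw [← germ_res F (hWO.trans i) hxW s]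
  exact h W hxW T' _ hW hz

/-- Surjectivity of the stalk map means that sections extend near the point. -/
theorem exists_extension_of_surjective (F : X.Modules) {x : X}
    (h : Function.Surjective (_root_.ZClos.rhoStalk Z F x)) {V : X.Opens} (hx : x ∈ V)
    (T : _root_.ZClos.Cl Z) (σ : Γ(F, img T V)) :
    ∃ (O : X.Opens) (_ : x ∈ O) (hOV : O ≤ V) (c : Γ(F, O)) (T' : _root_.ZClos.Cl Z) (hT : T ≤ T'),
      res F (img_le T' O) c = res F (img_mono hT hOV) σ := by
  obtain ⟨e, he⟩ := h (((_root_.ZClos.H0 Z).obj F).presheaf.germ V x hx (iota F T V σ))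
  obtain ⟨U, hU, c₀, rfl⟩ := TopCat.Presheaf.exists_germ_eq F.presheaf e
  rw [rhoStalk_germ] at he
  obtain ⟨O₁, hO₁, iU, iV, e'⟩ := exists_res_eq_of_germ_eq _ hU hx _ _ he
  obtain ⟨O, hxO, hOO₁, hO⟩ := exists_compact_nhd x O₁ hO₁
  have hle : img T O ≤ img T V := img_mono le_rfl (hOO₁.trans iV)
  have h1 : iota F T O (res F (img_le T O) (res F (hOO₁.trans iU) c₀)) = iota F T O (res F hle σ) := by
    rw [← rhoApp_app, app_res, ← res_iota F T (hOO₁.trans iV) σ hle, ← res_res _ hOO₁ iU, e', res_res]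
  have h2 : iota F T O (res F (img_le T O) (res F (hOO₁.trans iU) c₀) - res F hle σ) = 0 := by
    rw [map_sub, h1, sub_self]
  obtain ⟨T', hT', hz⟩ := iota_eq_zero F hO T _ h2
  refine ⟨O, hxO, hOO₁.trans iV, res F (hOO₁.trans iU) c₀, T', hT', ?_⟩
  rw [map_sub, sub_eq_zero] at hz
  simp only [res_res] at hz ⊢
  exact hz

theorem surjective_rhoStalk_of (F : X.Modules) {x : X}
    (h : ∀ (V : X.Opens) (_ : x ∈ V) (T : _root_.ZClos.Cl Z) (σ : Γ(F, img T V)), IsCompact (V : Set X) →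
      ∃ (O : X.Opens) (_ : x ∈ O) (hOV : O ≤ V) (c : Γ(F, O)) (T' : _root_.ZClos.Cl Z) (hT : T ≤ T'),
        res F (img_le T' O) c = res F (img_mono hT hOV) σ) :
    Function.Surjective (_root_.ZClos.rhoStalk Z F x) := by
  intro e
  obtain ⟨U, hU, t, rfl⟩ := TopCat.Presheaf.exists_germ_eq ((_root_.ZClos.H0 Z).obj F).presheaf e
  obtain ⟨V, hxV, hVU, hV⟩ := exists_compact_nhd x U hU
  obtain ⟨T, σ, hσ⟩ := exists_iota_eq F hV (res _ hVU t)
  obtain ⟨O, hxO, hOV, c, T', hT, hc⟩ := h V hxV T σ hV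
  refine ⟨F.presheaf.germ O x hxO c, ?_⟩
  have hle : img T O ≤ img T V := img_mono le_rfl hOV
  rw [rhoStalk_germ, rhoApp_app F T', hc, ← res_res F (_root_.ZClos.resPush_le (_root_.ZClos.Cl.U_anti hT) O) hle σ,
    iota_res F hT, ← res_iota F T hOV σ hle, hσ, germ_res, germ_res]

variable (F : X.Modules) (hF : Coh.IsCoh F)
include hF

/-- Depth one at the generizations in `Z` kills germs supported in `Z`. -/
theorem germ_eq_zero_of_depth {x₀ : X}
    (h : ∀ y : X, y ⤳ x₀ → y ∈ Z → (1 : ℕ∞) ≤ LocCoh.depth (X.presheaf.stalk y) (F.presheaf.stalk y))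
    {V : X.Opens} (hx₀ : x₀ ∈ V) (d : Γ(F, V))
    (hoff : ∀ (z : X) (hz : z ∈ V), z ∉ Z → F.presheaf.germ V z hz d = 0) :
    F.presheaf.germ V x₀ hx₀ d = 0 := by
  haveI := hF.1
  haveI := hF.2
  let S : Set X := {z | ∃ hz : z ∈ V, F.presheaf.germ V z hz d ≠ 0}
  by_contra hne
  obtain ⟨x, hxC, hxx₀, hmax⟩ := GrothLib.Depth.exists_maximal_generalization (C := closure S) isClosed_closure
    (x₀ := x₀) (subset_closure ⟨hx₀, hne⟩)
  have hxV : x ∈ V := hxx₀.mem_open V.2 hx₀
  have hxne : F.presheaf.germ V x hxV d ≠ 0 := fun h0 => by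
    obtain ⟨O, hxO, i, i', e⟩ := exists_res_eq_of_germ_eq F hxV hxV d 0 (h0.trans (map_zero _).symm)
    obtain ⟨z, hzO, hzV, hz⟩ := mem_closure_iff.1 hxC O O.2 hxO
    refine hz ((germ_res F i hzO d).symm.trans ?_)
    rw [show res F i d = res F i' 0 from e, map_zero, map_zero]
  have hxZ : x ∈ Z := by_contra fun hxZ => hxne (hoff x hxV hxZ)
  haveI := GrothLib.QuasiFlat.finite_stalk F hF x
  haveI : Nontrivial (F.presheaf.stalk x) := nontrivial_of_ne _ _ hxne
  obtain ⟨α, hαm, hα⟩ := (GrothLib.Depth.one_le_idealDepth_iff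
    (IsLocalRing.maximalIdeal.isMaximal _).ne_top).1 (h x hxx₀ hxZ)
  obtain ⟨W, hW, hWV, hxW, hWC⟩ := GrothLib.Depth.exists_nhd_specializes (closure S) isClosed_closure hmax hxV
  obtain ⟨den, num, hden, hnum⟩ := FlatFP.exists_common_denominator hW hxW (κ := PUnit.{u + 1}) (fun _ => α)
  have hu : IsUnit (X.presheaf.germ W x hxW den) :=
    (Scheme.mem_basicOpen _ den x hxW).mp (notMem_primeAt_iff.mp hden)
  let a := num PUnit.unit
  have hreg : ∀ μ : F.presheaf.stalk x, X.presheaf.germ W x hxW a • μ = 0 → μ = 0 := fun μ hμ => by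
    rw [hnum, mul_smul] at hμ
    exact hα.right_eq_zero_of_smul (hu.smul_eq_zero.mp hμ)
  have hax : x ∉ X.basicOpen a := fun hx' => by
    have h1 := (Scheme.mem_basicOpen _ a x hxW).1 hx'
    rw [hnum] at h1
    exact (IsLocalRing.mem_maximalIdeal _).mp hαm (isUnit_of_mul_isUnit_right h1)
  obtain ⟨n, hn⟩ := GrothLib.Depth.exists_pow_smul_eq (M := F) hW a (res F hWV d) 0 (by
    rw [GrothLib.Depth.mres, GrothLib.Depth.mres, map_zero]
    refine section_ext F _ _ fun z hz => ?_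
    rw [map_zero]
    refine (germ_res F (X.basicOpen_le a) hz _).trans ((germ_res F hWV _ d).trans ?_)
    by_contra hzne
    exact hax ((hWC z (subset_closure ⟨hWV (X.basicOpen_le a hz), hzne⟩) (X.basicOpen_le a hz)).mem_open
      (X.basicOpen a).2 hz))
  have hg := congrArg (F.presheaf.germ W x hxW) hn
  rw [smul_zero, map_zero, WeakAss.germ_smul hxW, germ_res, map_pow] at hg
  refine hxne ?_
  clear hn
  induction n with
  | zero => simpa using hg
  | succ n ih => exact ih (hreg _ (by rw [← mul_smul, ← pow_succ']; exact hg))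

theorem isZPureAt_of_depth {x₀ : X}
    (h : ∀ y : X, y ⤳ x₀ → y ∈ Z → (1 : ℕ∞) ≤ LocCoh.depth (X.presheaf.stalk y) (F.presheaf.stalk y)) :
    _root_.ZClos.IsZPureAt Z F x₀ :=
  isZPureAt_of F fun V hx T s _ hs => germ_eq_zero_of_depth F hF h hx s fun z hz hzZ => by
    have hzI : z ∈ img T V := mem_img.2 ⟨fun hT => hzZ (T.2 hT), hz⟩
    rw [← germ_res F (img_le T V) hzI s, hs, map_zero]

/-- Depth two at the generizations in `Z` extends sections. -/
theorem exists_extension_of_depth {x₀ : X}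
    (h : ∀ y : X, y ⤳ x₀ → y ∈ Z → (2 : ℕ∞) ≤ LocCoh.depth (X.presheaf.stalk y) (F.presheaf.stalk y))
    {V : X.Opens} (hV : IsCompact (V : Set X)) (hx₀ : x₀ ∈ V) (T : _root_.ZClos.Cl Z) (σ : Γ(F, img T V)) :
    ∃ (O : X.Opens) (_ : x₀ ∈ O) (hOV : O ≤ V) (c : Γ(F, O)) (T' : _root_.ZClos.Cl Z) (hT : T ≤ T'),
      res F (img_le T' O) c = res F (img_mono hT hOV) σ := by
  haveI := hF.1
  haveI := hF.2
  haveI : NoetherianSpace (V : Set X) := (noetherianSpace_set_iff _).2 fun t ht => isCompact_of_subset hV ht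
  let 𝒪 : Set (Opens (V : Set X)) := {P | ∃ (O : X.Opens) (h0 : img T V ≤ O) (_ : O ≤ V) (t : Γ(F, O)),
    res F h0 t = σ ∧ (P : Set (V : Set X)) = Subtype.val ⁻¹' (O : Set X)}
  obtain ⟨P, ⟨O, h0, hOV, t, ht, hP⟩, hmaxP⟩ := (wellFounded_gt (α := Opens (V : Set X))).has_min 𝒪
    ⟨⟨Subtype.val ⁻¹' (img T V : Set X), (img T V).2.preimage continuous_subtype_val⟩,
      img T V, le_rfl, img_le T V, σ, res_self F le_rfl σ, rfl⟩
  by_cases hxO : x₀ ∈ O
  · refine ⟨O, hxO, hOV, t, T, le_rfl, ?_⟩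
    have h3 : img T O ≤ img T V := img_mono le_rfl hOV
    show res F _ t = res F h3 σ
    rw [← ht, res_res]
  exfalso
  obtain ⟨x, hxC, hxx₀, hmax⟩ := GrothLib.Depth.exists_maximal_generalization (C := (O : Set X)ᶜ)
    O.2.isClosed_compl (x₀ := x₀) hxO
  have hxV : x ∈ V := hxx₀.mem_open V.2 hx₀
  have hxT : x ∈ (T.1 : Set X) := by_contra fun hxT => hxC (h0 (mem_img.2 ⟨hxT, hxV⟩))
  obtain ⟨W, hW, hWV, hxW, a, b, hab, hC⟩ := GrothLib.Depth.Mod.exists_nice_nhd (F := F) hF (O : Set X)ᶜ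
    O.2.isClosed_compl hmax (h x hxx₀ (T.2 hxT)) hxV
  have hDa : X.basicOpen a ≤ O := fun z hz => by
    by_contra h; exact (hC z h).1 hz
  have hDb : X.basicOpen b ≤ O := fun z hz => by
    by_contra h; exact (hC z h).2 hz
  obtain ⟨n, p, hp⟩ := GrothLib.Depth.exists_mres_eq (M := F) hW a (res F hDa t)
  obtain ⟨m, q, hq⟩ := GrothLib.Depth.exists_mres_eq (M := F) hW b (res F hDb t)
  have hle1 : X.basicOpen (a * b) ≤ X.basicOpen a := (X.basicOpen_mul a b).le.trans inf_le_left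
  have hle2 : X.basicOpen (a * b) ≤ X.basicOpen b := (X.basicOpen_mul a b).le.trans inf_le_right
  obtain ⟨k, hk⟩ := GrothLib.Depth.exists_pow_smul_eq (M := F) hW (a * b) (b ^ m • p) (a ^ n • q) (by
    refine section_ext F _ _ fun z hz => ?_
    have hzW : z ∈ W := X.basicOpen_le _ hz
    have h1 := congrArg (F.presheaf.germ (X.basicOpen a) z (hle1 hz)) hp
    have h2 := congrArg (F.presheaf.germ (X.basicOpen b) z (hle2 hz)) hq
    rw [GrothLib.Depth.germ_mres, WeakAss.germ_smul, map_pow, GrothLib.Depth.germ_res, germ_res] at h1 h2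
    rw [GrothLib.Depth.germ_mres, GrothLib.Depth.germ_mres, WeakAss.germ_smul hzW, WeakAss.germ_smul hzW,
      h1, h2, map_pow, map_pow, smul_comm])
  have h3 : b ^ k • (b ^ m • p - a ^ n • q) = 0 :=
    GrothLib.Depth.Mod.pow_smul_eq_zero hab.1 k _ (by
      rw [smul_smul, ← mul_pow, smul_sub, sub_eq_zero]; exact hk)
  rw [smul_sub, sub_eq_zero, smul_smul, smul_comm (b ^ k) (a ^ n), ← pow_add] at h3
  obtain ⟨c, hc⟩ := hab.pow n (k + m) p ⟨b ^ k • q, h3⟩
  have hcT : res F (X.basicOpen_le a) c = res F hDa t := by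
    refine ((GrothLib.Depth.isUnit_res_pow a n)).smul_left_cancel.mp ?_
    rw [← hp, hc, GrothLib.Depth.mres_smul, show GrothLib.Depth.res (X.basicOpen_le a) (a ^ n) = GrothLib.Depth.res (X.basicOpen_le a) a ^ n from map_pow _ _ _]
  have hagree : res F (inf_le_left : W ⊓ O ≤ W) c = res F (inf_le_right : W ⊓ O ≤ O) t := by
    rw [← sub_eq_zero]
    refine GrothLib.Depth.Mod.eq_zero_of_germ_basicOpen hW hab.1 inf_le_left fun z hz hza => ?_
    rw [map_sub, sub_eq_zero, germ_res, germ_res, ← germ_res F (X.basicOpen_le a) hza c, hcT, germ_res]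
  let fam : ULift.{u} Bool → X.Opens := fun i => cond i.down W O
  let sf : ∀ i, Γ(F, fam i) := fun i => match i with
    | ⟨true⟩ => c
    | ⟨false⟩ => t
  obtain ⟨u, hu, -⟩ := TopCat.Sheaf.existsUnique_gluing'
    (F := (⟨F.presheaf, F.isSheaf⟩ : TopCat.Sheaf Ab.{u} X.carrier)) fam (iSup fam)
    (fun i => homOfLE (le_iSup fam i)) le_rfl sf (by
      rintro ⟨i⟩ ⟨j⟩
      rcases i <;> rcases j
      · rfl
      · show res F (inf_le_left : O ⊓ W ≤ O) t = res F (inf_le_right : O ⊓ W ≤ W) c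
        have h4 := congrArg (res F (le_of_eq (inf_comm O W))) hagree
        rw [res_res, res_res] at h4
        exact h4.symm
      · exact hagree
      · rfl)
  have hO' : O ≤ iSup fam := le_iSup fam ⟨false⟩
  have hW' : W ≤ iSup fam := le_iSup fam ⟨true⟩
  have huO : res F hO' u = t := hu ⟨false⟩
  refine hmaxP ⟨Subtype.val ⁻¹' (iSup fam : X.Opens), (iSup fam).2.preimage continuous_subtype_val⟩
    ⟨iSup fam, h0.trans hO', iSup_le fun i => ?_, u, ?_, rfl⟩ ?_
  · rcases i with ⟨_ | _⟩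
    · exact hOV
    · exact hWV
  · rw [← res_res F h0 hO', huO, ht]
  · refine lt_of_le_of_ne (fun z hz => ?_) fun e => ?_
    · have hz' : z.1 ∈ O := hP.subset hz
      exact hO' hz'
    · have hmem : (⟨x, hxV⟩ : (V : Set X)) ∈ (P : Set (V : Set X)) := by
        rw [e]
        exact hW' hxW
      exact hxC (hP.subset hmem)

theorem isZClosedAt_of_depth {x₀ : X}
    (h : ∀ y : X, y ⤳ x₀ → y ∈ Z → (2 : ℕ∞) ≤ LocCoh.depth (X.presheaf.stalk y) (F.presheaf.stalk y)) :
    _root_.ZClos.IsZClosedAt Z F x₀ :=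
  ⟨isZPureAt_of_depth F hF fun y hy hyZ => le_trans (by norm_num) (h y hy hyZ),
    surjective_rhoStalk_of F fun _ hx T σ hV => exists_extension_of_depth F hF h hV hx T σ⟩

/-- Purity at a point gives depth one at its generizations in `Z`. -/
theorem one_le_depth_of_isZPureAt (hZ : StableUnderSpecialization Z) {x x' : X}
    (h : _root_.ZClos.IsZPureAt Z F x) (hx : x' ⤳ x) (hx' : x' ∈ Z) :
    (1 : ℕ∞) ≤ LocCoh.depth (X.presheaf.stalk x') (F.presheaf.stalk x') := by
  haveI := hF.1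
  haveI := hF.2
  haveI := GrothLib.QuasiFlat.finite_stalk F hF x'
  rcases subsingleton_or_nontrivial (F.presheaf.stalk x') with hN | hN
  · rw [GrothLib.Depth.depth_eq_top_of_subsingleton]; exact le_top
  refine (GrothLib.Depth.one_le_idealDepth_iff (IsLocalRing.maximalIdeal.isMaximal _).ne_top).2 ?_
  by_contra hno
  push Not at hno
  obtain ⟨μ, hμ, hk⟩ := GrothLib.Depth.exists_killed_of_no_regular hno
  obtain ⟨_, ⟨W, hW, rfl⟩, hxW, -⟩ := X.isBasis_affineOpens.exists_subset_of_mem_open (Set.mem_univ x) isOpen_univ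
  replace hW : IsAffineOpen W := hW
  have hx'W : x' ∈ W := hx.mem_open W.2 hxW
  haveI : IsNoetherianRing Γ(X, W) := IsLocallyNoetherian.component_noetherian ⟨W, hW⟩
  obtain ⟨c, z, hc, hz⟩ := WeakAss.exists_smul_eq_germ hW hx'W μ
  obtain ⟨g, hg, hgz⟩ := GrothLib.Depth.exists_smul_mem_of_fg (primeAt x' hx'W).primeCompl
    (IsNoetherian.noetherian (primeAt x' hx'W))
    (LinearMap.ker (LinearMap.toSpanSingleton Γ(X, W) Γ(F, W) z)) (fun a ha => by
      obtain ⟨c', hc', h'⟩ := (WeakAss.germ_eq_zero_iff hW hx'W (a • z)).mp (by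
        rw [WeakAss.germ_smul hx'W, ← hz, smul_comm, hk _ ha, smul_zero])
      exact ⟨c', hc', by rw [LinearMap.mem_ker, LinearMap.toSpanSingleton_apply, smul_eq_mul, mul_smul]; exact h'⟩)
  let T : _root_.ZClos.Cl Z :=
    ⟨⟨closure {x'}, isClosed_closure⟩, fun y hy => hZ (specializes_iff_mem_closure.2 hy) hx'⟩
  have h0 : res F (img_le T W) (g • z) = 0 := by
    refine section_ext F _ _ fun y hy => ?_
    rw [map_zero, germ_res]
    have hyW : y ∈ W := (mem_img.1 hy).2
    obtain ⟨a, ha, hay⟩ : ∃ a ∈ primeAt x' hx'W, a ∉ primeAt y hyW := by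
      by_contra hne
      push Not at hne
      exact (mem_img.1 hy).1 (specializes_iff_mem_closure.1 ((AssPts.specializes_iff hW hx'W hyW).mpr hne))
    refine (WeakAss.germ_eq_zero_iff hW hyW _).mpr ⟨a, hay, ?_⟩
    have := hgz a ha
    rw [LinearMap.mem_ker, LinearMap.toSpanSingleton_apply, smul_eq_mul, mul_comm, mul_smul] at this
    exact this
  have h1 := germ_eq_zero_of_isZPureAt F h hxW T _ h0
  obtain ⟨O, hxO, i, i', e⟩ := exists_res_eq_of_germ_eq F hxW hxW (g • z) 0 (h1.trans (map_zero _).symm)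
  have hx'O : x' ∈ O := hx.mem_open O.2 hxO
  have h2 : F.presheaf.germ W x' hx'W (g • z) = 0 := by
    rw [← germ_res F i hx'O (g • z), show res F i (g • z) = res F i' 0 from e, map_zero, map_zero]
  rw [WeakAss.germ_smul hx'W, ← hz] at h2
  exact hμ (((Scheme.mem_basicOpen _ c x' hx'W).mp (notMem_primeAt_iff.mp hc)).smul_eq_zero.mp
    (((Scheme.mem_basicOpen _ g x' hx'W).mp (notMem_primeAt_iff.mp hg)).smul_eq_zero.mp h2))

/-- Closedness at a point gives depth two at its generizations in `Z`. -/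
theorem two_le_depth_of_isZClosedAt (hZ : StableUnderSpecialization Z) {x x' : X}
    (h : _root_.ZClos.IsZClosedAt Z F x) (hx : x' ⤳ x) (hx' : x' ∈ Z) :
    (2 : ℕ∞) ≤ LocCoh.depth (X.presheaf.stalk x') (F.presheaf.stalk x') := by
  haveI := hF.1
  haveI := hF.2
  haveI := GrothLib.QuasiFlat.finite_stalk F hF x'
  rcases subsingleton_or_nontrivial (F.presheaf.stalk x') with hN | hN
  · rw [GrothLib.Depth.depth_eq_top_of_subsingleton]; exact le_top
  let A := X.presheaf.stalk x'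
  let N := F.presheaf.stalk x'
  have hne : IsLocalRing.maximalIdeal A • (⊤ : Submodule A N) ≠ ⊤ :=
    GrothLib.Depth.smul_top_ne_top (IsLocalRing.maximalIdeal.isMaximal _).ne_top
  obtain ⟨α, hαm, hα⟩ : ∃ α ∈ IsLocalRing.maximalIdeal A, IsSMulRegular N α :=
    (GrothLib.Depth.one_le_idealDepth_iff (IsLocalRing.maximalIdeal.isMaximal _).ne_top).1
      (one_le_depth_of_isZPureAt F hF hZ h.1 hx hx')
  have key : ∀ ν : N, (∀ β ∈ IsLocalRing.maximalIdeal A, ∃ ρ, β • ν = α • ρ) → ∃ ρ, ν = α • ρ := by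
    intro ν hν
    obtain ⟨_, ⟨W, hW, rfl⟩, hxW, -⟩ := X.isBasis_affineOpens.exists_subset_of_mem_open (Set.mem_univ x) isOpen_univ
    replace hW : IsAffineOpen W := hW
    have hx'W : x' ∈ W := hx.mem_open W.2 hxW
    haveI : IsNoetherianRing Γ(X, W) := IsLocallyNoetherian.component_noetherian ⟨W, hW⟩
    haveI : Module.Finite Γ(X, W) Γ(F, W) := QCoh.moduleFinite_of_isFiniteType F hF.2 hW
    let p := primeAt x' hx'W
    let S := p.primeCompl
    obtain ⟨den, num, hd, hnum⟩ := FlatFP.exists_common_denominator hW hx'W (κ := PUnit.{u + 1}) (fun _ => α)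
    have hud : IsUnit (X.presheaf.germ W x' hx'W den) :=
      (Scheme.mem_basicOpen _ den x' hx'W).mp (notMem_primeAt_iff.mp hd)
    let a := num PUnit.unit
    have hareg : ∀ μ : N, X.presheaf.germ W x' hx'W a • μ = 0 → μ = 0 := fun μ hμ => by
      rw [hnum, mul_smul] at hμ
      exact hα.right_eq_zero_of_smul (hud.smul_eq_zero.mp hμ)
    obtain ⟨c, z, hc, hz⟩ := WeakAss.exists_smul_eq_germ hW hx'W ν
    let La : Γ(F, W) →ₗ[Γ(X, W)] Γ(F, W) := LinearMap.lsmul _ _ a
    obtain ⟨s₁, hs₁, hs₁'⟩ := GrothLib.Depth.exists_smul_mem_of_fg S (IsNoetherian.noetherian (LinearMap.ker La)) ⊥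
      (fun m hm => by
        obtain ⟨c', hc', hcm⟩ := (WeakAss.germ_eq_zero_iff hW hx'W m).mp (hareg _ (by
          rw [← WeakAss.germ_smul hx'W, show a • m = 0 from hm, map_zero]))
        exact ⟨c', hc', by simpa using hcm⟩)
    obtain ⟨s₂, hs₂, hs₂'⟩ := GrothLib.Depth.exists_smul_mem_of_fg S (IsNoetherian.noetherian p)
      ((LinearMap.range La).comap (LinearMap.toSpanSingleton Γ(X, W) Γ(F, W) z)) (fun a' ha' => by
        obtain ⟨ρ, hρ⟩ := hν _ ha'
        obtain ⟨e, w, he, hw⟩ := WeakAss.exists_smul_eq_germ hW hx'W ρ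
        obtain ⟨c', hc', h'⟩ := (WeakAss.germ_eq_zero_iff hW hx'W ((e * den) • a' • z - (c • a • w))).mp (by
          rw [map_sub, WeakAss.germ_smul hx'W, WeakAss.germ_smul hx'W, WeakAss.germ_smul hx'W,
            WeakAss.germ_smul hx'W, ← hz, ← hw, hnum, map_mul, sub_eq_zero, smul_comm _ _ ν, hρ]
          simp only [← mul_smul]
          congr 1
          ring)
        refine ⟨c' * (e * den), S.mul_mem hc' (S.mul_mem he hd), c' • c • w, ?_⟩
        rw [smul_sub, sub_eq_zero] at h'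
        show a • c' • c • w = ((c' * (e * den)) • a') • z
        rw [smul_eq_mul, mul_smul, mul_smul, h', smul_comm a c', smul_comm a c])
    choose w hw using fun i : p => LinearMap.mem_range.mp (hs₂' i.1 i.2)
    have hw' : ∀ i : p, a • (s₁ • w i) = (s₁ * s₂) • i.1 • z := fun i => by
      rw [smul_comm, show a • w i = (s₂ * i.1) • z from hw i, smul_smul, smul_smul, mul_assoc]
    let T : _root_.ZClos.Cl Z :=
      ⟨⟨closure {x'}, isClosed_closure⟩, fun y hy => hZ (specializes_iff_mem_closure.2 hy) hx'⟩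
    let Wf : p → X.Opens := fun i => X.basicOpen i.1
    have hWfW : ∀ i, Wf i ≤ W := fun i => X.basicOpen_le _
    have hu : ∀ i : p, IsUnit (GrothLib.Depth.res (hWfW i) i.1) := fun i => RingedSpace.isUnit_res_basicOpen _ i.1
    let tf : ∀ i : p, Γ(F, Wf i) := fun i => (↑(hu i).unit⁻¹ : Γ(X, Wf i)) • res F (hWfW i) (s₁ • w i)
    have htf : ∀ (i : p) (y : X) (hy : y ∈ Wf i), X.presheaf.germ W y (hWfW i hy) i.1 •
        F.presheaf.germ (Wf i) y hy (tf i) = F.presheaf.germ W y (hWfW i hy) (s₁ • w i) := by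
      intro i y hy
      have hval : X.presheaf.germ W y (hWfW i hy) i.1 =
          X.presheaf.germ (Wf i) y hy ↑(hu i).unit := (TopCat.Presheaf.germ_res_apply X.presheaf _ y hy i.1).symm
      rw [hval, ← WeakAss.germ_smul hy, smul_smul, (hu i).unit.mul_inv, one_smul, germ_res]
    have hcompat : TopCat.Presheaf.IsCompatible (C := Ab.{u}) F.presheaf Wf tf := by
      intro i j
      refine section_ext F _ _ fun y hy => ?_
      show F.presheaf.germ _ y hy (res F inf_le_left (tf i)) = F.presheaf.germ _ y hy (res F inf_le_right (tf j))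
      rw [germ_res, germ_res]
      have hyW : y ∈ W := hWfW i hy.1
      have hui : IsUnit (X.presheaf.germ W y hyW i.1) := (Scheme.mem_basicOpen _ _ y hyW).1 hy.1
      have huj : IsUnit (X.presheaf.germ W y hyW j.1) := (Scheme.mem_basicOpen _ _ y hyW).1 hy.2
      refine hui.smul_left_cancel.1 (huj.smul_left_cancel.1 ?_)
      rw [htf i y hy.1, smul_comm, htf j y hy.2, ← WeakAss.germ_smul hyW, ← WeakAss.germ_smul hyW]
      congr 1
      have hk : a • (j.1 • w i - i.1 • w j) = 0 := by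
        rw [smul_sub, smul_comm, show a • w i = (s₂ * i.1) • z from hw i, smul_comm a,
          show a • w j = (s₂ * j.1) • z from hw j, smul_smul, smul_smul, sub_eq_zero]
        congr 1; ring
      have := hs₁' _ hk
      rw [Submodule.mem_bot, smul_sub, sub_eq_zero] at this
      rw [smul_comm j.1, smul_comm i.1]
      exact this
    obtain ⟨σ₀, hσ₀, -⟩ := TopCat.Sheaf.existsUnique_gluing'
      (F := (⟨F.presheaf, F.isSheaf⟩ : TopCat.Sheaf Ab.{u} X.carrier)) Wf (iSup Wf)
      (fun i => homOfLE (le_iSup Wf i)) le_rfl tf hcompat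
    let σ' : Γ(F, iSup Wf) := σ₀
    have hσ' : ∀ i : p, res F (le_iSup Wf i) σ' = tf i := hσ₀
    clear_value σ'
    have hcov : img T W ≤ iSup Wf := fun y hy => by
      obtain ⟨hyT, hyW⟩ := mem_img.1 hy
      obtain ⟨a', ha', hay⟩ : ∃ a' ∈ p, a' ∉ primeAt y hyW := by
        by_contra hne
        push Not at hne
        exact hyT (specializes_iff_mem_closure.1 ((AssPts.specializes_iff hW hx'W hyW).mpr hne))
      exact Opens.mem_iSup.mpr ⟨⟨a', ha'⟩, notMem_primeAt_iff.mp hay⟩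
    obtain ⟨O, hxO, hOW, t, T', hT', ht⟩ := exists_extension_of_surjective F h.2 hxW T (res F hcov σ')
    have hx'O : x' ∈ O := hx.mem_open O.2 hxO
    have hoff : ∀ (y : X) (hy : y ∈ O), y ∉ Z →
        F.presheaf.germ O y hy (GrothLib.Depth.res hOW a • t - res F hOW ((s₁ * s₂) • z)) = 0 := by
      intro y hy hyZ
      have hyI : y ∈ img T' O := mem_img.2 ⟨fun h => hyZ (T'.2 h), hy⟩
      have e1 : F.presheaf.germ O y hy t = F.presheaf.germ (iSup Wf) y (hcov (img_mono hT' hOW hyI)) σ' := by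
        have e2 := congrArg (F.presheaf.germ (img T' O) y hyI) ht
        rw [germ_res, germ_res, germ_res] at e2
        exact e2
      obtain ⟨i, hi⟩ := Opens.mem_iSup.mp (hcov (img_mono hT' hOW hyI))
      have hui : IsUnit (X.presheaf.germ W y (hOW hy) i.1) := (Scheme.mem_basicOpen _ _ y (hOW hy)).1 hi
      rw [map_sub, sub_eq_zero, germ_res, WeakAss.germ_smul hy, e1, ← germ_res F (le_iSup Wf i) hi σ', hσ' i]
      refine hui.smul_left_cancel.1 ?_
      have hga : X.presheaf.germ O y hy (GrothLib.Depth.res hOW a) = X.presheaf.germ W y (hOW hy) a :=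
        TopCat.Presheaf.germ_res_apply X.presheaf _ y hy a
      rw [hga, smul_comm, htf i y hi, ← WeakAss.germ_smul, ← WeakAss.germ_smul, hw' i, smul_comm]
    have h5 := germ_eq_zero_of_depth F hF (x₀ := x')
      (fun y hy hyZ => one_le_depth_of_isZPureAt F hF hZ h.1 (hy.trans hx) hyZ) hx'O _ hoff
    rw [map_sub, sub_eq_zero, germ_res, WeakAss.germ_smul hx'O, WeakAss.germ_smul hx'W, ← hz] at h5
    have hga : X.presheaf.germ O x' hx'O (GrothLib.Depth.res hOW a) = X.presheaf.germ W x' hx'W a :=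
      TopCat.Presheaf.germ_res_apply X.presheaf _ x' hx'O a
    rw [hga, hnum, smul_smul (X.presheaf.germ W x' hx'W (s₁ * s₂))] at h5
    obtain ⟨v, hv⟩ : IsUnit (X.presheaf.germ W x' hx'W (s₁ * s₂) * X.presheaf.germ W x' hx'W c) :=
      ((Scheme.mem_basicOpen _ _ x' hx'W).mp (notMem_primeAt_iff.mp (S.mul_mem hs₁ hs₂))).mul
        ((Scheme.mem_basicOpen _ c x' hx'W).mp (notMem_primeAt_iff.mp hc))
    refine ⟨((↑v⁻¹ : A) * X.presheaf.germ W x' hx'W den) • F.presheaf.germ O x' hx'O t, ?_⟩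
    rw [smul_smul, show α * ((↑v⁻¹ : A) * X.presheaf.germ W x' hx'W den) =
      (↑v⁻¹ : A) * (X.presheaf.germ W x' hx'W den * α) by ring, mul_smul, h5, ← hv, smul_smul, Units.inv_mul, one_smul]
  haveI : Nontrivial (QuotSMulTop α N) := Submodule.Quotient.nontrivial_iff.mpr fun h => hne
    (top_le_iff.mp fun y _ => by
      have hy : y ∈ α • (⊤ : Submodule A N) := by rw [h]; exact Submodule.mem_top
      obtain ⟨c, -, rfl⟩ := (Submodule.mem_smul_pointwise_iff_exists _ _ _).mp hy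
      exact Submodule.smul_mem_smul hαm Submodule.mem_top)
  obtain ⟨β, hβm, hβ⟩ : ∃ β ∈ IsLocalRing.maximalIdeal A, IsSMulRegular (QuotSMulTop α N) β := by
    by_contra hno
    push Not at hno
    obtain ⟨μ, hμ, hk⟩ := GrothLib.Depth.exists_killed_of_no_regular hno
    obtain ⟨ν, rfl⟩ := Submodule.Quotient.mk_surjective _ μ
    refine hμ ((Submodule.Quotient.mk_eq_zero _).mpr ?_)
    obtain ⟨ρ, rfl⟩ := key ν fun β hβ => by
      have := hk β hβ
      rw [← Submodule.Quotient.mk_smul, Submodule.Quotient.mk_eq_zero] at this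
      obtain ⟨ρ, -, hρ⟩ := (Submodule.mem_smul_pointwise_iff_exists _ _ _).mp this
      exact ⟨ρ, hρ.symm⟩
    exact Submodule.smul_mem_pointwise_smul _ _ _ trivial
  refine (GrothLib.Depth.le_idealDepth_iff_exists _ hne 2).mpr ⟨[α, β], rfl, ?_, ?_⟩
  · intro r hr
    simp only [List.mem_cons, List.not_mem_nil, or_false] at hr
    rcases hr with rfl | rfl <;> assumption
  · rw [RingTheory.Sequence.isWeaklyRegular_cons_iff, RingTheory.Sequence.isWeaklyRegular_cons_iff]
    exact ⟨hα, hβ, RingTheory.Sequence.IsWeaklyRegular.nil _ _⟩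

theorem isZPureAt_iff_depth (hZ : StableUnderSpecialization Z) (x : X) :
    _root_.ZClos.IsZPureAt Z F x ↔
      ∀ x' : X, x' ⤳ x → x' ∈ Z → (1 : ℕ∞) ≤ LocCoh.depth (X.presheaf.stalk x') (F.presheaf.stalk x') :=
  ⟨fun h _ hx hx' => one_le_depth_of_isZPureAt F hF hZ h hx hx', isZPureAt_of_depth F hF⟩

theorem isZClosedAt_iff_depth (hZ : StableUnderSpecialization Z) (x : X) :
    _root_.ZClos.IsZClosedAt Z F x ↔
      ∀ x' : X, x' ⤳ x → x' ∈ Z → (2 : ℕ∞) ≤ LocCoh.depth (X.presheaf.stalk x') (F.presheaf.stalk x') :=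
  ⟨fun h _ hx hx' => two_le_depth_of_isZClosedAt F hF hZ h hx hx', isZClosedAt_of_depth F hF⟩

end GrothLib.ZClosure
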